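import Groth.Agent.Lib.BGAtlas.Algebraic
import Groth.Agent.Lib.AlgSt.NoethStack
import Groth.Agent.Lib.AlgSt.Gerbe.Props

/-!
# Classifying stacks are smooth
-/

set_option autoImplicit false
set_option linter.style.haveILetI false
set_option backward.isDefEq.respectTransparency false
set_option backward.isDefEq.respectTransparency.types false

universe u

open CategoryTheory CategoryTheory.Limits AlgebraicGeometry MonoidalCategory CartesianMonoidalCategory MonObj

namespace GrothLib.BGAtlas

open _root_.AlgSt GrothLib.FibCat GrothLib.AlgSt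

variable {S : Scheme.{u}}

theorem isEquivOver_toSelf_terminal : _root_.FibCat.IsEquivOver (_root_.FibCat.toSelf (_root_.FibCat.overCat (𝟙_ (Over S)))) := by
  refine (GrothLib.FibCat.isEquivOver_iff _).2 ⟨⟨fun {a b} f => ?_⟩, ⟨fun {a b} f g h => Over.OverMorphism.ext h⟩, fun T => ?_⟩
  · let f0 : a.left ⟶ b.left := f
    exact ⟨Over.homMk f0 ((toUnit_unique (f0 ≫ b.hom) a.hom)), rfl⟩
  · let T0 : Over S := T
    exact ⟨Over.mk (toUnit T0), Iso.refl _, IsHomLift.id rfl⟩

variable {G : Over S} [GrpObj G] [Flat G.hom] [LocallyOfFinitePresentation G.hom] [IsAffineHom G.hom]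

/-- The classifying stack of a flat, locally finitely presented affine group is smooth over the base. -/
theorem locQ_smooth_BG : LocQ (AlgSp.LocP @Smooth)
    (_root_.FibCat.toSelf (BG Scheme.fppfPrecoverage G)) := by
  have hBG := isAlgStack_quotSt (trivAction G)
  have hP : IsAlgStack Scheme.fppfPrecoverage (_root_.FibCat.overCat (𝟙_ (Over S))) :=
    (isDM_of_repByAlgSp (repByAlgSp_overCat _)).1
  have hS : IsAlgStack Scheme.fppfPrecoverage (_root_.FibCat.selfOver (Over S)) := (isDM_of_repByAlgSp repByAlgSp_selfOver).1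
  obtain ⟨hf, hl, hs⟩ := Groth.Agent.S13572.result G (𝟙_ (Over S)) (trivAction G)
  refine locQ_of_precomp_fppf GrothLib.AlgSp.EtLocal.smooth Section.isSmoothLocalST_smooth
    GrothLib.FppfSource.fppfSourceDescends_smooth hP hBG hS _ _
    (locQ_of_repByAlgSpWith GrothLib.AlgSp.isSmoothLocalST_flat hBG hf)
    (locQ_of_repByAlgSpWith GrothLib.AlgSp.isSmoothLocalST_lfp hBG hl)
    ((isSurjective_iff_repByAlgSpWith hP.isStack.1 hBG.isStack.1 _ (repByAlgSp1_of_repByAlgSpWith hf)).2 hs) ?_
  exact locQ_of_repByAlgSpWith Section.isSmoothLocalST_smooth hS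
    (SmoothSurj.isEquivOver _ isEquivOver_toSelf_terminal).1

end GrothLib.BGAtlas
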