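import Groth.Prelude.Def_AlgSt5
import Groth.Agent.Lib.QuotSt.Triv
import Groth.Agent.Lib.FibCat.Fp
import Groth.Agent.Lib.FibCat.FibSet
import Groth.Agent.Lib.FibCat.Slice

/-!
# Quotient stacks: change of the space along an equivariant morphism
-/

set_option autoImplicit false
set_option linter.style.haveILetI false
set_option backward.isDefEq.respectTransparency false
set_option backward.isDefEq.respectTransparency.types false

universe u

open CategoryTheory CategoryTheory.Limits CategoryTheory.Functor AlgebraicGeometry MonoidalCategory CartesianMonoidalCategory MonObj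

namespace GrothLib.BGAtlas

variable {S : Scheme.{u}} {K : Precoverage Scheme.{u}} {G : Over S} [GrpObj G]
variable {X Y : Over S} {aX : AlgGrp.Action G X} {aY : AlgGrp.Action G Y}

/-- A product with diagonal action. -/
noncomputable def prodAct {W : Over S} (aW : AlgGrp.Action G W) (aX : AlgGrp.Action G X) :
    AlgGrp.Action G (W ⊗ X) where
  act := lift ((G ◁ fst W X) ≫ aW.act) ((G ◁ snd W X) ≫ aX.act)
  one_act := by
    apply CartesianMonoidalCategory.hom_ext
    · rw [Category.assoc, lift_fst, ← whisker_exchange_assoc, aW.one_act]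
      simp
    · rw [Category.assoc, lift_snd, ← whisker_exchange_assoc, aX.one_act]
      simp
  mul_act := by
    apply CartesianMonoidalCategory.hom_ext
    · rw [Category.assoc, lift_fst, Category.assoc, Category.assoc, lift_fst, ← whisker_exchange_assoc, aW.mul_act,
        ← MonoidalCategory.whiskerLeft_comp_assoc, lift_fst, MonoidalCategory.whiskerLeft_comp_assoc,
        associator_naturality_right_assoc]
    · rw [Category.assoc, lift_snd, Category.assoc, Category.assoc, lift_snd, ← whisker_exchange_assoc, aX.mul_act,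
        ← MonoidalCategory.whiskerLeft_comp_assoc, lift_snd, MonoidalCategory.whiskerLeft_comp_assoc,
        associator_naturality_right_assoc]

theorem prodAct_snd {W : Over S} (aW : AlgGrp.Action G W) (aX : AlgGrp.Action G X) :
    (prodAct aW aX).act ≫ snd W X = (G ◁ snd W X) ≫ aX.act := lift_snd _ _

theorem prodAct_free {W : Over S} {aW : AlgGrp.Action G W} (aX : AlgGrp.Action G X)
    (hfree : ∀ (T : Over S) (g : T ⟶ G) (w : T ⟶ W), lift g w ≫ aW.act = w → g = 1)
    (T : Over S) (g : T ⟶ G) (w : T ⟶ W ⊗ X) (h : lift g w ≫ (prodAct aW aX).act = w) : g = 1 := by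
  refine hfree T g (w ≫ fst W X) ?_
  have := congrArg (fun t => t ≫ fst W X) h
  simp only [prodAct, Category.assoc, lift_fst] at this
  rwa [← Category.assoc, lift_whiskerLeft] at this

variable (p : Y ⟶ X) (hp : aY.act ≫ p = (G ◁ p) ≫ aX.act)

/-- Push-forward of the map to the space along an equivariant morphism. -/
def pushObj (A : AlgSt.QuotObj K G aY) : AlgSt.QuotObj K G aX where
  base := A.base
  P := A.P
  act := A.act
  π := A.π
  cart := A.cart
  loc := A.loc
  φ := A.φ ≫ p
  eqv := by rw [reassoc_of% A.eqv, hp, MonoidalCategory.whiskerLeft_comp, Category.assoc]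

/-- Push-forward along an equivariant morphism. -/
def push : AlgSt.QuotSt K G aY ⥤ᵇ AlgSt.QuotSt K G aX where
  toFunctor :=
    { obj := pushObj p hp
      map := fun {A B} f =>
        { base := f.base
          top := f.top
          eqv := f.eqv
          cart := f.cart
          wφ := by change f.top ≫ B.φ ≫ p = A.φ ≫ p; rw [← f.wφ, Category.assoc] } }
  w := rfl

theorem faithful_push : (push (K := K) p hp).toFunctor.Faithful :=
  ⟨fun {A B} f g h => AlgSt.QuotObj.hom_ext
    (congrArg (fun t : pushObj p hp A ⟶ pushObj p hp B => t.base) h)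
    (congrArg (fun t : pushObj p hp A ⟶ pushObj p hp B => t.top) h)⟩

/-- Quotient by a free action: morphisms are determined by their base. -/
theorem hom_ext_free (hfree : ∀ (T : Over S) (g : T ⟶ G) (y : T ⟶ Y), lift g y ≫ aY.act = y → g = 1)
    {A B : AlgSt.QuotObj K G aY} {f f' : A ⟶ B} (h : f.base = f'.base) : f = f' := by
  refine AlgSt.QuotObj.hom_ext h ?_
  have e : f'.top ≫ B.π = f.top ≫ B.π := by rw [f'.cart.w, f.cart.w, h]
  let l := B.cart.lift f'.top f.top e
  have hl : l = lift (l ≫ fst G B.P) f.top := by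
    apply CartesianMonoidalCategory.hom_ext
    · simp
    · rw [lift_snd]; exact B.cart.lift_snd _ _ _
  have hact : lift (l ≫ fst G B.P) f.top ≫ B.act.act = f'.top := by
    rw [← hl]; exact B.cart.lift_fst _ _ _
  have hg : l ≫ fst G B.P = 1 := by
    refine hfree _ _ A.φ ?_
    have h' := congrArg (fun t => t ≫ B.φ) hact
    simp only [Category.assoc, B.eqv, f'.wφ] at h'
    rwa [← Category.assoc, lift_whiskerLeft, f.wφ] at h'
  rw [← hact, hg, GrothLib.QuotSt.lift_one_act]

theorem isFibSetoid_free (hfree : ∀ (T : Over S) (g : T ⟶ G) (y : T ⟶ Y), lift g y ≫ aY.act = y → g = 1)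
    (h : FibCat.IsFibGrpd (AlgSt.QuotSt K G aY).p) : FibCat.IsFibSetoid (AlgSt.QuotSt K G aY).p :=
  ⟨h, fun U a b => ⟨fun φ ψ => by
    have := φ.2
    have := ψ.2
    exact Subtype.ext (hom_ext_free hfree ((IsHomLift.fac' (AlgSt.QuotSt K G aY).p (𝟙 U) φ.1).trans
      (IsHomLift.fac' (AlgSt.QuotSt K G aY).p (𝟙 U) ψ.1).symm))⟩⟩

section Square

variable [K.HasIsos]

/-- The chart of a quotient stack on the slice. -/
noncomputable abbrev chart (aX : AlgGrp.Action G X) : FibCat.overCat X ⥤ᵇ AlgSt.QuotSt K G aX :=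
  BasedFunctor.comp (AlgSt.ofOverCat X) (AlgSt.quotMap K G aX)

/-- The trivial torsors of the two spaces agree. -/
noncomputable def trivIso (o : Over Y) :
    (chart (K := K) aX).obj (Over.mk (o.hom ≫ p)) ≅ (push (K := K) p hp).obj ((chart (K := K) aY).obj o) where
  hom :=
    { base := 𝟙 o.left
      top := 𝟙 (G ⊗ o.left)
      eqv := by
        change (AlgSt.leftMul G o.left).act ≫ 𝟙 _ = (G ◁ 𝟙 _) ≫ (AlgSt.leftMul G o.left).act
        simp
      cart := by
        change IsPullback (𝟙 (G ⊗ o.left)) (snd G o.left) (snd G o.left) (𝟙 o.left)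
        exact IsPullback.of_horiz_isIso ⟨by simp⟩
      wφ := by
        change 𝟙 (G ⊗ o.left) ≫ ((G ◁ o.hom) ≫ aY.act) ≫ p = (G ◁ (o.hom ≫ p)) ≫ aX.act
        rw [Category.id_comp, Category.assoc, hp, MonoidalCategory.whiskerLeft_comp, Category.assoc] }
  inv :=
    { base := 𝟙 o.left
      top := 𝟙 (G ⊗ o.left)
      eqv := by
        change (AlgSt.leftMul G o.left).act ≫ 𝟙 _ = (G ◁ 𝟙 _) ≫ (AlgSt.leftMul G o.left).act
        simp
      cart := by
        change IsPullback (𝟙 (G ⊗ o.left)) (snd G o.left) (snd G o.left) (𝟙 o.left)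
        exact IsPullback.of_horiz_isIso ⟨by simp⟩
      wφ := by
        change 𝟙 (G ⊗ o.left) ≫ (G ◁ (o.hom ≫ p)) ≫ aX.act = ((G ◁ o.hom) ≫ aY.act) ≫ p
        rw [Category.id_comp, Category.assoc, hp, MonoidalCategory.whiskerLeft_comp, Category.assoc] }
  hom_inv_id := AlgSt.QuotObj.hom_ext (Category.id_comp _) (Category.id_comp _)
  inv_hom_id := AlgSt.QuotObj.hom_ext (Category.id_comp _) (Category.id_comp _)

/-- The space `Y` maps to the base change of the push-forward to the chart. -/
noncomputable def toFp : FibCat.overCat Y ⥤ᵇ FibCat.fp (chart (K := K) aX) (push (K := K) p hp) where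
  toFunctor :=
    { obj := fun o => GrothLib.FibCat.Fp.mk (F := chart (K := K) aX) (G := push (K := K) p hp)
        (Over.mk (o.hom ≫ p) : Over X) ((chart (K := K) aY).obj o) (trivIso p hp o)
        (IsHomLift.map (AlgSt.QuotSt K G aX).p (trivIso p hp o).hom)
      map := fun {o o'} f => GrothLib.FibCat.Fp.homMk
        (Over.homMk f.left (by
          change f.left ≫ o'.hom ≫ p = o.hom ≫ p
          rw [← Category.assoc, Over.w f]))
        ((chart (K := K) aY).map f)
        (AlgSt.QuotObj.hom_ext ((Category.comp_id _).trans (Category.id_comp _).symm)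
          ((Category.comp_id _).trans (Category.id_comp _).symm))
      map_id := fun o => GrothLib.FibCat.Fp.hom_ext (Over.OverMorphism.ext rfl) ((chart (K := K) aY).map_id o)
      map_comp := fun f g => GrothLib.FibCat.Fp.hom_ext (Over.OverMorphism.ext rfl)
        ((chart (K := K) aY).map_comp f g) }
  w := rfl

theorem faithful_toFp : (toFp (K := K) p hp).toFunctor.Faithful :=
  ⟨fun {o o'} f g h => Over.OverMorphism.ext
    (congrArg (fun t : (toFp (K := K) p hp).obj o ⟶ (toFp (K := K) p hp).obj o' => t.hom.fst.left) h)⟩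

theorem full_toFp : (toFp (K := K) p hp).toFunctor.Full := by
  refine ⟨fun {o o'} ψ => ?_⟩
  have ht : (G ◁ ψ.hom.fst.left) ≫ 𝟙 _ = 𝟙 _ ≫ ψ.hom.snd.top := congrArg AlgSt.QuotObj.Hom.top ψ.hom.w
  have hb : ψ.hom.fst.left ≫ 𝟙 _ = 𝟙 _ ≫ ψ.hom.snd.base := congrArg AlgSt.QuotObj.Hom.base ψ.hom.w
  rw [Category.comp_id, Category.id_comp] at ht hb
  have hw : (G ◁ ψ.hom.fst.left) ≫ (G ◁ o'.hom) ≫ aY.act = (G ◁ o.hom) ≫ aY.act := by
    rw [ht]; exact ψ.hom.snd.wφ
  have hf : ψ.hom.fst.left ≫ o'.hom = o.hom := by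
    have h2 := congrArg (fun t => GrothLib.QuotSt.unitSec o.left ≫ t) hw
    simp only [← MonoidalCategory.whiskerLeft_comp_assoc] at h2
    exact (GrothLib.QuotSt.unitSec_whiskerLeft_act aY _).symm.trans (h2.trans (GrothLib.QuotSt.unitSec_whiskerLeft_act aY _))
  exact ⟨Over.homMk ψ.hom.fst.left hf,
    GrothLib.FibCat.Fp.hom_ext (Over.OverMorphism.ext rfl) (AlgSt.QuotObj.hom_ext hb ht)⟩

theorem essSurj_toFp (b : (FibCat.fp (chart (K := K) aX) (push (K := K) p hp)).obj) :
    ∃ (o : Over Y) (e : (toFp (K := K) p hp).obj o ≅ b),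
      (FibCat.fp (chart (K := K) aX) (push (K := K) p hp)).p.IsHomLift
        (𝟙 ((FibCat.fp (chart (K := K) aX) (push (K := K) p hp)).p.obj b)) e.hom := by
  let a : Over X := b.obj.fst
  let A : AlgSt.QuotObj K G aY := b.obj.snd
  let i : (chart (K := K) aX).obj a ≅ (push (K := K) p hp).obj A := b.obj.iso
  let c : (AlgSt.ofSch X).obj := (AlgSt.ofOverCat X).obj a
  let q : a.left ⟶ A.P := GrothLib.QuotSt.point (a := c) (A := pushObj p hp A) i.hom
  have hq : (q ≫ A.φ) ≫ p = a.hom := by
    rw [Category.assoc]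
    exact GrothLib.QuotSt.point_φ (a := c) (A := pushObj p hp A) i.hom
  have htop : i.hom.top = (G ◁ q) ≫ A.act.act := GrothLib.QuotSt.top_eq (a := c) (A := pushObj p hp A) i.hom
  have hφ : i.hom.top ≫ A.φ = (G ◁ (q ≫ A.φ)) ≫ aY.act := by
    rw [htop, Category.assoc, A.eqv, MonoidalCategory.whiskerLeft_comp, Category.assoc]
  have h1 : i.hom.base ≫ i.inv.base = 𝟙 _ := congrArg AlgSt.QuotObj.Hom.base i.hom_inv_id
  have h2 : i.inv.base ≫ i.hom.base = 𝟙 _ := congrArg AlgSt.QuotObj.Hom.base i.inv_hom_id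
  have h3 : i.hom.top ≫ i.inv.top = 𝟙 _ := congrArg AlgSt.QuotObj.Hom.top i.hom_inv_id
  have h4 : i.inv.top ≫ i.hom.top = 𝟙 _ := congrArg AlgSt.QuotObj.Hom.top i.inv_hom_id
  let j : (chart (K := K) aY).obj (Over.mk (q ≫ A.φ)) ≅ A :=
    { hom :=
        { base := i.hom.base
          top := i.hom.top
          eqv := i.hom.eqv
          cart := i.hom.cart
          wφ := hφ }
      inv :=
        { base := i.inv.base
          top := i.inv.top
          eqv := i.inv.eqv
          cart := i.inv.cart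
          wφ := by
            change i.inv.top ≫ (G ◁ (q ≫ A.φ)) ≫ aY.act = A.φ
            rw [← hφ, ← Category.assoc, h4]
            exact Category.id_comp _ }
      hom_inv_id := AlgSt.QuotObj.hom_ext h1 h3
      inv_hom_id := AlgSt.QuotObj.hom_ext h2 h4 }
  refine ⟨Over.mk (q ≫ A.φ), GrothLib.FibCat.Fp.isoMk (Over.isoMk (Iso.refl a.left) ?_) j ?_, ?_⟩
  · change 𝟙 a.left ≫ a.hom = (q ≫ A.φ) ≫ p
    rw [hq, Category.id_comp]
  · refine AlgSt.QuotObj.hom_ext ?_ ?_
    · change 𝟙 a.left ≫ i.hom.base = 𝟙 a.left ≫ i.hom.base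
      rfl
    · change (G ◁ 𝟙 a.left) ≫ i.hom.top = 𝟙 (G ⊗ a.left) ≫ i.hom.top
      rw [MonoidalCategory.whiskerLeft_id]
  · rw [GrothLib.FibCat.Fp.isHomLift_iff]
    exact IsHomLift.of_fac' _ _ _ rfl rfl (by simp; rfl)

theorem isEquivOver_toFp : FibCat.IsEquivOver (toFp (K := K) p hp) :=
  (GrothLib.FibCat.isEquivOver_iff _).2 ⟨full_toFp p hp, faithful_toFp p hp, essSurj_toFp p hp⟩

/-- The first projection of the base change. -/
noncomputable def toFpFstIso : BasedFunctor.comp (GrothLib.FibCat.overMap p) (BasedFunctor.id (FibCat.overCat X)) ≅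
    BasedFunctor.comp (toFp (K := K) p hp) (FibCat.fpFst (chart (K := K) aX) (push (K := K) p hp)) :=
  GrothLib.FibCat.natIsoOfComponents (fun o => Over.isoMk (Iso.refl o.left) (by
      change 𝟙 o.left ≫ o.hom ≫ p = o.hom ≫ p
      rw [Category.id_comp]))
    (fun o => IsHomLift.of_fac' (FibCat.overCat X).p _ _ rfl rfl (by simp; rfl))
    (fun {o o'} f => Over.OverMorphism.ext ((Category.comp_id f.left).trans (Category.id_comp f.left).symm))

end Square

end GrothLib.BGAtlas
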