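import Groth.Agent.Lib.BGAtlas.Sigma
import Groth.Agent.Lib.BGAtlas.Quot
import Groth.Agent.Lib.AlgSt.DescRep
import Groth.Agent.Lib.AlgSt.EtaleAtlas
import Groth.Agent.Lib.AlgSt.AtlasDiag
import Groth.Agent.Lib.SpQuot.CompareDiag
import Groth.Agent.S13572
import Groth.Agent.S12836

/-!
# Quotient stacks by flat, locally finitely presented affine group schemes are algebraic
-/

set_option autoImplicit false
set_option linter.style.haveILetI false
set_option backward.isDefEq.respectTransparency false
set_option backward.isDefEq.respectTransparency.types false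

universe u

open CategoryTheory CategoryTheory.Limits AlgebraicGeometry MonoidalCategory CartesianMonoidalCategory MonObj

namespace GrothLib.BGAtlas

open _root_.AlgSt GrothLib.FibCat GrothLib.AlgSt

variable {S : Scheme.{u}}

theorem descendsToSchemes_surjective : DescendsToSchemes (AlgSp.IsSurjectiveMor (S := S)) := by
  intro F hF U V c _ _ h3 b h x
  obtain ⟨v, hv⟩ := GrothLib.AlgSp.surjective_map_of_repWith ((AlgSp.repWith_yon_map_iff _ _).2 h3) x
  obtain ⟨t, ht⟩ := h v
  refine ⟨AlgSp.Points.map (pullback.snd _ _) t, ?_⟩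
  rw [← AlgSp.Points.map_comp, ← pullback.condition, AlgSp.Points.map_comp, ht, hv]

variable {G : Over S} [GrpObj G]

theorem repByAlgSp1_diag_quotSt [IsAffineHom G.hom] {X : Over S} (aX : AlgGrp.Action G X) :
    RepByAlgSp1 (_root_.FibCat.diag (_root_.FibCat.toSelf (QuotSt Scheme.fppfPrecoverage G aX))) := by
  letI := GrothLib.SpQuot.grpYon G
  exact repByAlgSpWith_top_iff.1 (GrothLib.SpQuot.repByAlgSpWith_diag_quotSt aX ‹_› (P := ⊤)
    (fun _ _ _ _ _ _ _ _ _ _ _ _ _ _ _ => ⟨fun _ _ => trivial, fun _ => trivial⟩)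
    fun _ _ _ _ _ _ => trivial)

variable [Flat G.hom] [LocallyOfFinitePresentation G.hom] [IsAffineHom G.hom]

/-- The quotient by a free action is an algebraic space. -/
theorem repByAlgSp_quotSt_free {Y : Over S} (aY : AlgGrp.Action G Y)
    (hfree : ∀ (T : Over S) (g : T ⟶ G) (y : T ⟶ Y), lift g y ≫ aY.act = y → g = 1) :
    RepByAlgSp (QuotSt Scheme.fppfPrecoverage G aY) := by
  have hst := Groth.Agent.S12836.result S G Y aY
  obtain ⟨hf, hl, hs⟩ := Groth.Agent.S13572.result G Y aY
  refine repByAlgSp_of_setoid_cover hst (isFibSetoid_free hfree hst.1)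
    (Z := ⟨(AlgSp.yon S).obj Y, AlgSp.IsAlgSpace.yon_obj Y⟩) (quotMap Scheme.fppfPrecoverage G aY) ?_
  have := IsEquivOver.full (IsEquivOver.refl (QuotSt Scheme.fppfPrecoverage G aY))
  have := IsEquivOver.faithful (IsEquivOver.refl (QuotSt Scheme.fppfPrecoverage G aY))
  refine repByAlgSpWith_of_square (f := BasedFunctor.comp (ofOverCat Y) (quotMap Scheme.fppfPrecoverage G aY))
    (toOverCat Y) (BasedFunctor.id _) (isEquivOver_toOverCat Y) (Iso.refl _) ?_
  exact repByAlgSpWith_inf
    (fun F F' H hF hG φ _ a ha => ⟨isoInvariant_surjective hF hG φ a ha.1, isoInvariant_locP hF hG φ a ha.2⟩)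
    (repByAlgSpWith_inf isoInvariant_surjective hs hf) hl

/-- A quotient stack by a flat, locally finitely presented affine group scheme is algebraic. -/
theorem isAlgStack_quotSt {X : Over S} (aX : AlgGrp.Action G X) :
    IsAlgStack Scheme.fppfPrecoverage (QuotSt Scheme.fppfPrecoverage G aX) := by
  have hst := Groth.Agent.S12836.result S G X aX
  have hdiag := repByAlgSp1_diag_quotSt aX
  obtain ⟨W, aW, hW, hWs, hfree⟩ := exists_free_cover (G := G)
  let p : W ⊗ X ⟶ X := snd W X
  have hp := prodAct_snd aW aX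
  have hU : IsAlgStack Scheme.fppfPrecoverage (QuotSt Scheme.fppfPrecoverage G (prodAct aW aX)) :=
    (isDM_of_repByAlgSp (repByAlgSp_quotSt_free (prodAct aW aX) (prodAct_free aX hfree))).1
  have hset := isFibSetoid_free (prodAct_free aX hfree) hU.isStack.1
  let u := push (K := Scheme.fppfPrecoverage) (aY := prodAct aW aX) (aX := aX) p hp
  have : u.toFunctor.Faithful := faithful_push p hp
  have hu : RepByAlgSp1 u := fun U y => repByAlgSp_of_isFibSetoid
    (isAlgStack_fp hst hdiag (isAlgStack_overCat U) hU y u)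
    (GrothLib.FibCat.Fp.isFibSetoid_of_faithful (isFibSetoid_overCat U) hU.isStack.1 hst.1)
  have hsm : Smooth p.left := MorphismProperty.of_isPullback (P := @Smooth)
    ((IsPullback.of_hasPullback W.hom X.hom)) hW
  have hsu : Surjective p.left := MorphismProperty.of_isPullback (P := @Surjective)
    ((IsPullback.of_hasPullback W.hom X.hom)) hWs
  obtain ⟨hf, hl, hs⟩ := Groth.Agent.S13572.result G X aX
  have hz := liftsFppf_of_repByAlgSpWith _ hf hl hs
  have key : RepByAlgSpWith (AlgSp.IsSurjectiveMor ⊓ AlgSp.LocP @Smooth) (_root_.FibCat.fpFst (chart aX) u) :=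
    (repByAlgSpWith_iff_of_square (toFp p hp) (BasedFunctor.id _) (isEquivOver_toFp p hp) (IsEquivOver.refl _)
      (toFpFstIso p hp)).2 (repByAlgSpWith_smoothSurj_overMap p)
  have := repByAlgSpWith_of_fpFst (P := AlgSp.IsSurjectiveMor ⊓ AlgSp.LocP @Smooth) isoInvariant_smoothSurj
    (descendsToSchemes_surjective.inf
      (descendsToSchemes_locP GrothLib.AlgSp.EtLocal.smooth GrothLib.AlgSp.fppfDescends_smooth)) hu hz key
  exact isAlgStack_of_atlas hst (hasAtlas_comp hU u (repByAlgSpWith_mono (fun _ _ _ _ _ h => h.2) this)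
    (repByAlgSpWith_mono (fun _ _ _ _ _ h => h.1) this))

end GrothLib.BGAtlas
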