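import Mathlib.RingTheory.Regular.RegularSequence
import Mathlib.RingTheory.Flat.Stability
import Mathlib.RingTheory.MvPolynomial.Tower
import Mathlib.RingTheory.IsTensorProduct
import Mathlib.RingTheory.TensorProduct.MvPolynomial
import Mathlib.RingTheory.RingHom.Flat

/-!
# Regular sequences: ideal form, unit scaling, base change of flatness over affine space
-/

set_option autoImplicit false
set_option linter.style.haveILetI false
set_option backward.isDefEq.respectTransparency false
set_option backward.isDefEq.respectTransparency.types false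

universe u

open RingTheory.Sequence TensorProduct

namespace GrothLib.BGAtlas

variable {A : Type u} [CommRing A] {r : ℕ}

theorem ofList_take_ofFn (f : Fin r → A) (i : ℕ) :
    Ideal.ofList ((List.ofFn f).take i) = Ideal.span (f '' {j | j.1 < i}) := by
  refine congrArg Ideal.span (Set.ext fun x => ?_)
  simp only [Set.mem_ofPred_eq, Set.mem_image, List.mem_iff_getElem, List.length_take, List.length_ofFn,
    List.getElem_take, List.getElem_ofFn]
  exact ⟨fun ⟨j, hj, e⟩ => ⟨⟨j, (lt_min_iff.1 hj).2⟩, (lt_min_iff.1 hj).1, e⟩,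
    fun ⟨j, hj, e⟩ => ⟨j, lt_min hj j.2, e⟩⟩

/-- Weak regularity in terms of ideals. -/
theorem isWeaklyRegular_ofFn_iff (f : Fin r → A) :
    IsWeaklyRegular A (List.ofFn f) ↔
      ∀ (i : Fin r) (m : A), f i * m ∈ Ideal.span (f '' {j | j < i}) → m ∈ Ideal.span (f '' {j | j < i}) := by
  rw [isWeaklyRegular_iff]
  have e : ∀ i : ℕ, (Ideal.ofList ((List.ofFn f).take i) • ⊤ : Submodule A A) = Ideal.span (f '' {j | j.1 < i}) :=
    fun i => by rw [smul_eq_mul, Ideal.mul_top, ofList_take_ofFn]
  constructor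
  · intro h i m hm
    have := isSMulRegular_quotient_iff_mem_of_smul_mem _ _ |>.1 (h i (by simp)) m
    rw [e, List.getElem_ofFn] at this
    exact this hm
  · intro h i hi
    rw [isSMulRegular_quotient_iff_mem_of_smul_mem]
    intro m hm
    rw [e, List.getElem_ofFn] at hm
    rw [e]
    exact h ⟨i, by simpa using hi⟩ m hm

/-- Scaling a regular sequence by units. -/
theorem isRegular_smul_units (f : Fin r → A) (u : Fin r → A) (hu : ∀ i, IsUnit (u i))
    (h : IsRegular A (List.ofFn f)) : IsRegular A (List.ofFn fun i => u i * f i) := by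
  have hs : ∀ s : Set (Fin r), Ideal.span ((fun i => u i * f i) '' s) = Ideal.span (f '' s) := fun s => by
    refine le_antisymm (Ideal.span_le.2 ?_) (Ideal.span_le.2 ?_)
    · rintro _ ⟨i, hi, rfl⟩
      exact Ideal.mul_mem_left _ _ (Ideal.subset_span ⟨i, hi, rfl⟩)
    · rintro _ ⟨i, hi, rfl⟩
      exact (Ideal.unit_mul_mem_iff_mem _ (hu i)).1 (Ideal.subset_span ⟨i, hi, rfl⟩)
  refine ⟨(isWeaklyRegular_ofFn_iff _).2 fun i m hm => ?_, fun htop => h.top_ne_smul ?_⟩
  · rw [hs] at hm ⊢
    rw [mul_assoc] at hm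
    exact (isWeaklyRegular_ofFn_iff f).1 h.toIsWeaklyRegular i m ((Ideal.unit_mul_mem_iff_mem _ (hu i)).1 hm)
  · refine htop.trans ?_
    have e : ∀ g : Fin r → A, Ideal.ofList (List.ofFn g) = Ideal.span (g '' Set.univ) := fun g => by
      rw [Set.image_univ]
      exact congrArg Ideal.span (Set.ext fun x => by simp [List.mem_ofFn])
    rw [e, e, hs]

/-- Flatness over affine space through a sequence is stable under base change. -/
theorem flat_aeval_baseChange {R : Type u} [CommRing R] [Algebra R A] (a : Fin r → A)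
    (h : (MvPolynomial.aeval (R := R) a).toRingHom.Flat) (B : Type u) [CommRing B] [Algebra R B] :
    (MvPolynomial.aeval (R := B) fun i => (1 : B) ⊗ₜ[R] a i).toRingHom.Flat := by
  letI : Algebra (MvPolynomial (Fin r) R) A := (MvPolynomial.aeval (R := R) a).toRingHom.toAlgebra
  haveI : IsScalarTower R (MvPolynomial (Fin r) R) A :=
    IsScalarTower.of_algebraMap_eq fun x => ((MvPolynomial.aeval (R := R) a).commutes x).symm
  haveI : Module.Flat (MvPolynomial (Fin r) R) A := h
  letI : Algebra (MvPolynomial (Fin r) B) (B ⊗[R] A) :=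
    (MvPolynomial.aeval (R := B) fun i => (1 : B) ⊗ₜ[R] a i).toRingHom.toAlgebra
  letI : Algebra A (B ⊗[R] A) := Algebra.TensorProduct.rightAlgebra
  letI : Algebra (MvPolynomial (Fin r) R) (MvPolynomial (Fin r) B) := MvPolynomial.algebraMvPolynomial
  letI : Algebra (MvPolynomial (Fin r) R) (B ⊗[R] A) :=
    ((algebraMap A (B ⊗[R] A)).comp (algebraMap (MvPolynomial (Fin r) R) A)).toAlgebra
  haveI : IsScalarTower R A (B ⊗[R] A) := Algebra.TensorProduct.right_isScalarTower
  haveI : IsScalarTower (MvPolynomial (Fin r) R) A (B ⊗[R] A) := IsScalarTower.of_algebraMap_eq fun _ => rfl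
  haveI : IsScalarTower R (MvPolynomial (Fin r) R) (B ⊗[R] A) := IsScalarTower.of_algebraMap_eq fun x => by
    rw [IsScalarTower.algebraMap_apply R A (B ⊗[R] A)]
    exact congrArg (algebraMap A (B ⊗[R] A)) ((MvPolynomial.aeval (R := R) a).commutes x).symm
  haveI : IsScalarTower B (MvPolynomial (Fin r) B) (B ⊗[R] A) :=
    IsScalarTower.of_algebraMap_eq fun x => ((MvPolynomial.aeval (R := B) _).commutes x).symm
  haveI : IsScalarTower (MvPolynomial (Fin r) R) (MvPolynomial (Fin r) B) (B ⊗[R] A) :=
    IsScalarTower.of_algebraMap_eq' (MvPolynomial.ringHom_ext (fun x => by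
      change (1 : B) ⊗ₜ[R] MvPolynomial.aeval (R := R) a (MvPolynomial.C x) =
        MvPolynomial.aeval (R := B) _ (MvPolynomial.map (algebraMap R B) (MvPolynomial.C x))
      rw [MvPolynomial.map_C, MvPolynomial.aeval_C, MvPolynomial.aeval_C, Algebra.TensorProduct.algebraMap_apply,
        Algebra.algebraMap_eq_smul_one, tmul_smul, Algebra.algebraMap_eq_smul_one]
      rw [algebraMap_smul, TensorProduct.smul_tmul']) (fun i => by
      change (1 : B) ⊗ₜ[R] MvPolynomial.aeval (R := R) a (MvPolynomial.X i) =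
        MvPolynomial.aeval (R := B) _ (MvPolynomial.map (algebraMap R B) (MvPolynomial.X i))
      rw [MvPolynomial.map_X, MvPolynomial.aeval_X, MvPolynomial.aeval_X]))
  haveI : IsScalarTower R (MvPolynomial (Fin r) B) (B ⊗[R] A) := IsScalarTower.of_algebraMap_eq fun x => by
    rw [IsScalarTower.algebraMap_apply R B (MvPolynomial (Fin r) B), ← IsScalarTower.algebraMap_apply B
      (MvPolynomial (Fin r) B) (B ⊗[R] A), ← IsScalarTower.algebraMap_apply R B (B ⊗[R] A)]
  have h1 : Algebra.IsPushout R B A (B ⊗[R] A) := inferInstance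
  have h2 : Algebra.IsPushout R (MvPolynomial (Fin r) R) B (MvPolynomial (Fin r) B) :=
    Algebra.IsPushout.symm inferInstance
  have h3 : Algebra.IsPushout (MvPolynomial (Fin r) R) A (MvPolynomial (Fin r) B) (B ⊗[R] A) :=
    (Algebra.IsPushout.comp_iff R (MvPolynomial (Fin r) R) B (MvPolynomial (Fin r) B)).1 h1.symm
  exact Module.Flat.isBaseChange (R := MvPolynomial (Fin r) R) (S := MvPolynomial (Fin r) B) (M := A) _ h3.symm.out

end GrothLib.BGAtlas
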