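import Groth.Agent.Lib.BGAtlas.StrAlg
import Groth.Agent.Lib.BGAtlas.Regular
import Groth.Agent.Lib.FibreFlat.RegularFlat
import Groth.Agent.Lib.FibreFlat.Slice
import Mathlib.RingTheory.Nakayama
import Mathlib.RingTheory.Finiteness.ModuleFinitePresentation

/-!
# Perturbed regular sequences at a point, and kernels generated by them nearby
-/

set_option autoImplicit false
set_option maxHeartbeats 600000
set_option linter.style.haveILetI false
set_option backward.isDefEq.respectTransparency false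
set_option backward.isDefEq.respectTransparency.types false

universe u

open TensorProduct RingTheory.Sequence IsLocalRing

namespace GrothLib.BGAtlas

variable {R : Type u} [CommRing R] {A : Type u} [CommRing A] [Algebra R A]
  {B : Type u} [CommRing B] [Algebra R B] {r : ℕ}

/-- A perturbation of a fibrewise regular sequence gives flatness near a point. -/
theorem exists_flat_perturbed [Algebra.FinitePresentation R A] [Module.Flat R A] (a : Fin r → A)
    (ha : (MvPolynomial.aeval (R := R) a).toRingHom.Flat) (w : Ideal B) [w.IsPrime]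
    (q : Ideal (B ⊗[R] A)) [q.IsPrime] (hq : q.comap (algebraMap B (B ⊗[R] A)) = w) (f : Fin r → B ⊗[R] A)
    (hf : ∀ i, f i - 1 ⊗ₜ a i ∈ w.map (algebraMap B (B ⊗[R] A))) (hfq : ∀ i, f i ∈ q) :
    ∃ g ∉ q, ((algebraMap (B ⊗[R] A) (Localization.Away g)).comp
      (MvPolynomial.aeval (R := B) f).toRingHom).Flat := by
  classical
  let P := B ⊗[R] A
  let W : Ideal P := w.map (algebraMap B P)
  -- regularity modulo `w`
  let π : P →ₐ[R] (B ⧸ w) ⊗[R] A := Algebra.TensorProduct.map (Ideal.Quotient.mkₐ R w) (AlgHom.id R A)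
  have hπs : Function.Surjective π := TensorProduct.map_surjective Ideal.Quotient.mk_surjective fun x => ⟨x, rfl⟩
  have hπk : RingHom.ker π = W := by
    refine (Algebra.TensorProduct.rTensor_ker (Ideal.Quotient.mkₐ R w) Ideal.Quotient.mk_surjective).trans ?_
    rw [show RingHom.ker (Ideal.Quotient.mkₐ R w) = w from Ideal.mk_ker]
    rfl
  have hwr : IsWeaklyRegular ((B ⧸ w) ⊗[R] A) (List.ofFn fun i => (1 : B ⧸ w) ⊗ₜ[R] a i) :=
    FibreFlat.weaklyRegular_of_flat_aeval (flat_aeval_baseChange a ha (B ⧸ w))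
  have hπa : ∀ i, π ((1 : B) ⊗ₜ[R] a i) = (1 : B ⧸ w) ⊗ₜ[R] a i := fun i => rfl
  have hc : ∀ T : Set (Fin r), (Ideal.span ((fun j => (1 : B) ⊗ₜ[R] a j) '' T)).map π.toRingHom =
      Ideal.span ((fun j => (1 : B ⧸ w) ⊗ₜ[R] a j) '' T) := fun T => by
    rw [Ideal.map_span, Set.image_image]
    exact congrArg Ideal.span (Set.image_congr fun i _ => hπa i)
  have hmem : ∀ (T : Set (Fin r)) (m : P), m ∈ Ideal.span ((fun j => (1 : B) ⊗ₜ[R] a j) '' T) ⊔ W ↔
      π m ∈ Ideal.span ((fun j => (1 : B ⧸ w) ⊗ₜ[R] a j) '' T) := fun T m => by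
    rw [← hc, ← hπk]
    exact (SetLike.ext_iff.1 (Ideal.comap_map_of_surjective π.toRingHom hπs _) m).symm
  have hP : ∀ (i : Fin r) (m : P), (1 ⊗ₜ a i) * m ∈ Ideal.span ((fun j => (1 : B) ⊗ₜ[R] a j) '' {j | j < i}) ⊔ W →
      m ∈ Ideal.span ((fun j => (1 : B) ⊗ₜ[R] a j) '' {j | j < i}) ⊔ W := fun i m hm => by
    rw [hmem] at hm ⊢
    rw [map_mul] at hm
    exact (isWeaklyRegular_ofFn_iff _).1 hwr i _ (by rwa [hπa] at hm)
  -- the local rings
  let Rl := Localization.AtPrime w
  let L := Localization.AtPrime q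
  haveI : IsLocalization.AtPrime Rl (q.comap (algebraMap B P)) := by
    have e : (q.comap (algebraMap B P)).primeCompl = w.primeCompl := Submonoid.ext fun x => by
      change x ∉ q.comap (algebraMap B P) ↔ x ∉ w
      rw [hq]
    change IsLocalization (q.comap (algebraMap B P)).primeCompl Rl
    rw [e]
    infer_instance
  obtain ⟨ψ, hψ, hl⟩ := FibreFlat.exists_localHom (algebraMap B P) q Rl L
  letI : Algebra Rl L := ψ.toAlgebra
  haveI : IsLocalHom (algebraMap Rl L) := hl
  haveI : IsScalarTower B Rl L := IsScalarTower.of_algebraMap_eq fun x =>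
    (IsScalarTower.algebraMap_apply B P L x).trans (hψ x).symm
  have hess : CAlgX.IsEssFinitePresentation Rl L :=
    FibreFlat.isEssFinitePresentation_localization (R := B) (A := P) w.primeCompl q.primeCompl
  haveI : Module.Flat B L := Module.Flat.trans B P L
  haveI : Module.Flat Rl L := (Module.flat_iff_of_isLocalization Rl w.primeCompl L).mpr inferInstance
  let j : P →+* L := algebraMap P L
  have hWm : W.map j = (maximalIdeal Rl).map (algebraMap Rl L) := by
    rw [← IsLocalization.AtPrime.map_eq_maximalIdeal w Rl, Ideal.map_map, Ideal.map_map,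
      ← IsScalarTower.algebraMap_eq, ← IsScalarTower.algebraMap_eq]
  have hJ : ∀ T : Set (Fin r), Ideal.span ((fun i => j (f i)) '' T) ⊔ W.map j =
      (Ideal.span ((fun i => (1 : B) ⊗ₜ[R] a i) '' T) ⊔ W).map j := fun T => by
    have e : ∀ i, j (f i) - j ((1 : B) ⊗ₜ[R] a i) ∈ W.map j := fun i => by
      rw [← map_sub]; exact Ideal.mem_map_of_mem _ (hf i)
    rw [Ideal.map_sup, Ideal.map_span, Set.image_image]
    refine le_antisymm (sup_le (Ideal.span_le.2 ?_) le_sup_right) (sup_le (Ideal.span_le.2 ?_) le_sup_right)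
    · rintro _ ⟨i, hi, rfl⟩
      change j (f i) ∈ _
      rw [← add_sub_cancel (j ((1 : B) ⊗ₜ[R] a i)) (j (f i))]
      exact Submodule.add_mem_sup (Ideal.subset_span ⟨i, hi, rfl⟩) (e i)
    · rintro _ ⟨i, hi, rfl⟩
      change j ((1 : B) ⊗ₜ[R] a i) ∈ _
      rw [← sub_sub_cancel (j (f i)) (j ((1 : B) ⊗ₜ[R] a i))]
      exact sub_mem (Ideal.mem_sup_left (Ideal.subset_span ⟨i, hi, rfl⟩)) (Ideal.mem_sup_right (e i))
  let mL := (maximalIdeal Rl).map (algebraMap Rl L)
  have hreg : IsRegular (L ⧸ mL) ((List.ofFn fun i => j (f i)).map (Ideal.Quotient.mk mL)) := by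
    rw [List.map_ofFn]
    refine ⟨(isWeaklyRegular_ofFn_iff _).2 fun i z hz => ?_, ?_⟩
    · obtain ⟨z, rfl⟩ := Ideal.Quotient.mk_surjective z
      simp only [Function.comp_apply, ← map_mul] at hz
      have hI : ∀ T : Set (Fin r), ∀ y : L, Ideal.Quotient.mk mL y ∈ Ideal.span ((fun i => Ideal.Quotient.mk mL (j (f i))) '' T) ↔
          y ∈ (Ideal.span ((fun i => (1 : B) ⊗ₜ[R] a i) '' T) ⊔ W).map j := fun T y => by
        rw [← hJ, hWm, ← Set.image_image (Ideal.Quotient.mk mL) (fun i => j (f i)), ← Ideal.map_span,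
          ← Ideal.mem_comap, Ideal.comap_map_of_surjective _ Ideal.Quotient.mk_surjective, ← RingHom.ker_eq_comap_bot,
          Ideal.mk_ker]
      change _ ∈ Ideal.span ((fun i => Ideal.Quotient.mk mL (j (f i))) '' _)
      rw [hI] at hz ⊢
      have hz' : j ((1 : B) ⊗ₜ[R] a i) * z ∈ (Ideal.span ((fun i => (1 : B) ⊗ₜ[R] a i) '' {k | k < i}) ⊔ W).map j := by
        rw [← sub_sub_cancel (j (f i)) (j ((1 : B) ⊗ₜ[R] a i)), sub_mul, ← map_sub]
        exact sub_mem hz (Ideal.mul_mem_right _ _ (Ideal.mem_map_of_mem _ (Ideal.mem_sup_right (hf i))))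
      obtain ⟨⟨y, t⟩, hyt⟩ := IsLocalization.surj q.primeCompl z
      have h1 : j ((1 : B) ⊗ₜ[R] a i * y) ∈ (Ideal.span ((fun i => (1 : B) ⊗ₜ[R] a i) '' {k | k < i}) ⊔ W).map j := by
        rw [map_mul, ← hyt, ← mul_assoc]
        exact Ideal.mul_mem_right _ _ hz'
      obtain ⟨s, hs, hsy⟩ := (IsLocalization.algebraMap_mem_map_algebraMap_iff q.primeCompl L _ _).1 h1
      rw [mul_left_comm] at hsy
      have h2 := (IsLocalization.algebraMap_mem_map_algebraMap_iff q.primeCompl L _ _).2 ⟨s, hs, hP i _ hsy⟩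
      rw [← hyt, mul_comm] at h2
      exact (Ideal.unit_mul_mem_iff_mem _ (IsLocalization.map_units L t)).1 h2
    · intro htop
      have hle : mL ≤ maximalIdeal L := ((local_hom_TFAE (algebraMap Rl L)).out 0 2).1 hl
      rw [smul_eq_mul, Ideal.mul_top] at htop
      have h1 : (1 : L ⧸ mL) ∈ (maximalIdeal L).map (Ideal.Quotient.mk mL) := by
        refine (Ideal.span_le.2 ?_ : _ ≤ _) (htop ▸ Submodule.mem_top)
        intro x hx
        obtain ⟨i, rfl⟩ := List.mem_ofFn.1 hx
        exact Ideal.mem_map_of_mem _ ((IsLocalization.AtPrime.to_map_mem_maximal_iff L q _).2 (hfq i))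
      rw [← map_one (Ideal.Quotient.mk mL), ← Ideal.mem_comap, Ideal.comap_map_of_surjective _ Ideal.Quotient.mk_surjective, ← RingHom.ker_eq_comap_bot,
        Ideal.mk_ker, sup_eq_left.2 hle] at h1
      exact (maximalIdeal.isMaximal L).ne_top ((Ideal.eq_top_iff_one _).2 h1)
  have hL := FibreFlat.flat_aeval_of_fibre_regular hess (fun i => j (f i)) hreg
  letI : Algebra (MvPolynomial (Fin r) B) P := (MvPolynomial.aeval (R := B) f).toRingHom.toAlgebra
  haveI : IsScalarTower B (MvPolynomial (Fin r) B) P :=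
    IsScalarTower.of_algebraMap_eq fun x => ((MvPolynomial.aeval (R := B) f).commutes x).symm
  haveI : Algebra.FinitePresentation (MvPolynomial (Fin r) B) P :=
    Algebra.FinitePresentation.of_restrict_scalars_finitePresentation B _ _
  letI : Algebra (MvPolynomial (Fin r) B) (MvPolynomial (Fin r) Rl) := MvPolynomial.algebraMvPolynomial
  haveI : Module.Flat (MvPolynomial (Fin r) B) L := by
    rw [← RingHom.flat_algebraMap_iff]
    have e : algebraMap (MvPolynomial (Fin r) B) L = (MvPolynomial.aeval (R := Rl) fun i => j (f i)).toRingHom.comp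
        (MvPolynomial.map (algebraMap B Rl)) := by
      refine MvPolynomial.ringHom_ext (fun x => ?_) fun i => ?_
      · change j (MvPolynomial.aeval (R := B) f (MvPolynomial.C x)) =
          MvPolynomial.aeval _ (MvPolynomial.map _ (MvPolynomial.C x))
        rw [MvPolynomial.map_C, MvPolynomial.aeval_C, MvPolynomial.aeval_C, ← IsScalarTower.algebraMap_apply,
          ← IsScalarTower.algebraMap_apply]
      · change j (MvPolynomial.aeval (R := B) f (MvPolynomial.X i)) =
          MvPolynomial.aeval _ (MvPolynomial.map _ (MvPolynomial.X i))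
        rw [MvPolynomial.map_X, MvPolynomial.aeval_X, MvPolynomial.aeval_X]
    rw [e]
    refine RingHom.Flat.comp ?_ hL
    change Module.Flat (MvPolynomial (Fin r) B) (MvPolynomial (Fin r) Rl)
    haveI : Module.Flat B Rl := IsLocalization.flat Rl w.primeCompl
    exact Module.Flat.isBaseChange (R := B) (S := MvPolynomial (Fin r) B) (M := Rl) _
      (inferInstance : Algebra.IsPushout B (MvPolynomial (Fin r) B) Rl (MvPolynomial (Fin r) Rl)).out
  obtain ⟨g, hg, hgflat⟩ := FibreFlat.exists_flat_away (P := MvPolynomial (Fin r) B) q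
    (Module.Flat.of_linearEquiv ((IsLocalizedModule.iso q.primeCompl (Algebra.linearMap P L)).restrictScalars _))
  refine ⟨g, hg, ?_⟩
  have e : (algebraMap P (Localization.Away g)).comp (MvPolynomial.aeval (R := B) f).toRingHom =
      algebraMap (MvPolynomial (Fin r) B) (Localization.Away g) := (IsScalarTower.algebraMap_eq _ _ _).symm
  rw [e, RingHom.flat_algebraMap_iff]
  exact hgflat

/-- A kernel generated by a sequence modulo a prime is generated by it near a point. -/
theorem exists_ker_le {n : ℕ} {S : Str B n} {P : Type u} [CommRing P] [Algebra B P] [Algebra.FinitePresentation B P]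
    (Ψ : P →ₐ[B] Alg S) (hΨ : Function.Surjective Ψ) (w : Ideal B) (q : Ideal P) [q.IsPrime]
    (hwq : w.map (algebraMap B P) ≤ q) (f : Fin r → P) (hf : ∀ i, Ψ (f i) = 0)
    (h : ∀ z, Ψ z = 0 → ∃ s ∉ q, s * z ∈ Ideal.span (Set.range f) ⊔ w.map (algebraMap B P)) :
    ∃ g ∉ q, ∀ z, Ψ z = 0 → g * z ∈ Ideal.span (Set.range f) := by
  classical
  haveI : Module.FinitePresentation B (Alg S) := Module.finitePresentation_of_projective B (Alg S)
  haveI : Algebra.FinitePresentation B (Alg S) := Algebra.FinitePresentation.of_finitePresentation B (Alg S)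
  obtain ⟨G, hG⟩ := Algebra.FinitePresentation.ker_fG_of_surjective Ψ hΨ
  let K : Ideal P := RingHom.ker Ψ.toRingHom
  let I : Ideal P := Ideal.span (Set.range f)
  choose σ hσ using fun j => hΨ (Alg.basis S j)
  let ρ : P →ₗ[B] P := LinearMap.id - (((Alg.basis S).constr B σ).comp Ψ.toLinearMap)
  have hρΨ : ∀ x, Ψ (ρ x) = 0 := fun x => by
    have e : Ψ.toLinearMap.comp ((Alg.basis S).constr B σ) = LinearMap.id :=
      (Alg.basis S).ext fun j => by simp [hσ]
    have := LinearMap.congr_fun e (Ψ x)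
    simp only [LinearMap.comp_apply, AlgHom.toLinearMap_apply, LinearMap.id_apply] at this
    change Ψ (x - (Alg.basis S).constr B σ (Ψ x)) = 0
    rw [map_sub, this, sub_self]
  have hρ : ∀ x, Ψ x = 0 → ρ x = x := fun x hx => by simp [ρ, hx]
  have hWK : ∀ x ∈ w.map (algebraMap B P), Ψ x = 0 → x ∈ w.map (algebraMap B P) * K := by
    intro x hx hx0
    rw [← hρ x hx0]
    have hx' : x ∈ w • (⊤ : Submodule B P) := by rw [Ideal.smul_top_eq_map]; exact hx
    refine Submodule.smul_induction_on hx' (fun c hc y _ => ?_) fun y y' hy hy' => by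
      rw [map_add]; exact add_mem hy hy'
    rw [map_smul, Algebra.smul_def]
    exact Ideal.mul_mem_mul (Ideal.mem_map_of_mem _ hc) (hρΨ y)
  let L := Localization.AtPrime q
  let j := algebraMap P L
  have hle : K.map j ≤ I.map j ⊔ maximalIdeal L • K.map j := by
    rw [Ideal.map_le_iff_le_comap]
    intro z hz
    obtain ⟨s, hs, hsz⟩ := h z hz
    obtain ⟨i, hi, v, hv, hiv⟩ := Submodule.mem_sup.1 hsz
    have hv0 : Ψ v = 0 := by
      have hi0 : Ψ i = 0 := by
        have hle' : I ≤ K := Ideal.span_le.2 (Set.range_subset_iff.2 hf)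
        exact hle' hi
      have := congrArg Ψ hiv
      rw [map_add, map_mul, hi0, show Ψ z = 0 from hz, zero_add, mul_zero] at this
      exact this
    rw [Ideal.mem_comap, ← Ideal.unit_mul_mem_iff_mem _ (IsLocalization.map_units L (⟨s, hs⟩ : q.primeCompl)),
      ← map_mul, ← hiv, map_add]
    refine Submodule.add_mem_sup (Ideal.mem_map_of_mem _ hi) ?_
    have := Ideal.mem_map_of_mem j (hWK v hv hv0)
    rw [Ideal.map_mul] at this
    refine Ideal.mul_mono_left ?_ this
    rw [Ideal.map_le_iff_le_comap]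
    exact hwq.trans fun x hx => (IsLocalization.AtPrime.to_map_mem_maximal_iff L q x).2 hx
  have hKI : K.map j ≤ I.map j := Submodule.le_of_le_smul_of_le_jacobson_bot
    (Ideal.FG.map ⟨G, hG⟩ j) (maximalIdeal_le_jacobson _) hle
  have hex : ∀ z : {z // z ∈ G}, ∃ s ∉ q, s * z.1 ∈ I := fun z => by
    have hz : j z.1 ∈ I.map j := hKI (Ideal.mem_map_of_mem _ ((Ideal.span_le.1 hG.le) z.2))
    obtain ⟨s, hs, hsz⟩ := (IsLocalization.algebraMap_mem_map_algebraMap_iff q.primeCompl L I _).1 hz
    exact ⟨s, hs, hsz⟩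
  choose s hs hsI using hex
  refine ⟨∏ z, s z, fun hmem => ?_, fun x hx => ?_⟩
  · obtain ⟨z, -, hz⟩ := (Ideal.IsPrime.prod_mem_iff).1 hmem
    exact hs z hz
  · have hx' : x ∈ Ideal.span (G : Set P) := hG.symm ▸ hx
    induction hx' using Submodule.span_induction with
    | mem y hy =>
      rw [← Finset.prod_erase_mul _ _ (Finset.mem_univ (⟨y, hy⟩ : {z // z ∈ G})), mul_assoc]
      exact Ideal.mul_mem_left _ _ (hsI _)
    | zero => simp
    | add y z _ _ h1 h2 => rw [mul_add]; exact add_mem (h1 (hG.le ‹y ∈ _›)) (h2 (hG.le ‹z ∈ _›))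
    | smul c y _ h1 => rw [smul_eq_mul, mul_left_comm]; exact Ideal.mul_mem_left _ _ (h1 (hG.le ‹y ∈ _›))

end GrothLib.BGAtlas
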