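import Groth.Agent.Lib.AlgSt.Gerbe.OfSection
import Groth.Agent.Lib.QuotSt.Shear

/-!
# An algebraic classifying stack has a flat, locally finitely presented group
-/

set_option autoImplicit false
set_option linter.style.haveILetI false
set_option backward.isDefEq.respectTransparency false
set_option backward.isDefEq.respectTransparency.types false

universe u

open CategoryTheory CategoryTheory.Limits AlgebraicGeometry MonoidalCategory CartesianMonoidalCategory MonObj

namespace GrothLib.BGAtlas

open _root_.AlgSt GrothLib.FibCat GrothLib.AlgSt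

variable {S : Scheme.{u}} {G : Over S} [GrpObj G]

/-- The base point of the classifying stack is locally surjective and unambiguous. -/
theorem locSec_base : Section.LocSec (U := ⟨(AlgSp.yon S).obj (𝟙_ (Over S)), AlgSp.IsAlgSpace.yon_obj _⟩)
    (quotMap Scheme.fppfPrecoverage G (trivAction G)) where
  loc A := by
    obtain ⟨R, hR, hs⟩ := A.loc
    refine ⟨(Sieve.overEquiv A.base).symm (Sieve.generate R), ?_, fun V f hf => ?_⟩
    · change Sieve.overEquiv A.base ((Sieve.overEquiv A.base).symm (Sieve.generate R)) ∈ Scheme.fppfTopology A.base.left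
      rw [OrderIso.apply_symm_apply]
      exact Precoverage.generate_mem_toGrothendieck hR
    obtain ⟨W, h, g, hg, hfac⟩ : Sieve.generate R f.left := by
      have := (Sieve.overEquiv_symm_iff (Sieve.generate R) f).1 hf
      exact this
    obtain ⟨s, hs'⟩ := hs g hg
    have hs'' : s ≫ A.π.left = g := hs'
    let q : V ⟶ A.P := Over.homMk (h ≫ s) (by
      rw [← Over.w A.π, Category.assoc, reassoc_of% hs'', ← Category.assoc, hfac]
      exact Over.w f)
    refine ⟨⟨V, ⟨q ≫ A.φ⟩⟩, GrothLib.QuotSt.homOfPoint ⟨V, ⟨q ≫ A.φ⟩⟩ A q rfl, ?_⟩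
    refine IsHomLift.of_fac' _ _ _ rfl rfl ?_
    have hq : q ≫ A.π = f := Over.OverMorphism.ext (by
      change (h ≫ s) ≫ A.π.left = f.left
      rw [Category.assoc, hs'', hfac])
    change q ≫ A.π = eqToHom rfl ≫ f ≫ eqToHom rfl
    rw [hq]
    simp
  sep o o' m hm := by
    obtain ⟨T, x⟩ := o
    obtain ⟨T', x'⟩ := o'
    replace hm : (QuotSt Scheme.fppfPrecoverage G (trivAction G)).p.IsHomLift (𝟙 T) m := hm
    have hd := @IsHomLift.codomain_eq _ _ _ _ (QuotSt Scheme.fppfPrecoverage G (trivAction G)).p _ _ _ _ (𝟙 T) m hm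
    change T' = T at hd
    subst hd
    exact congrArg (Stk.EltObj.mk T') (ULift.ext _ _ (toUnit_unique _ _))

/-- An algebraic classifying stack forces the group to be flat and locally of finite presentation. -/
theorem flat_lfp_of_isAlgStack (h : IsAlgStack Scheme.fppfPrecoverage (BG Scheme.fppfPrecoverage G)) :
    Flat G.hom ∧ LocallyOfFinitePresentation G.hom := by
  have hs := locSec_base (G := G)
  have hP := hs.repByAlgSpWith h (Section.repByAlgSp1_of_space
    (U := ⟨(AlgSp.yon S).obj (𝟙_ (Over S)), AlgSp.IsAlgSpace.yon_obj _⟩) h (quotMap Scheme.fppfPrecoverage G (trivAction G)))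
  have hQb := Section.isLocalOnBase_flatLFP (S := S)
  have key : AlgSp.LocP Section.FlatLFP ((AlgSp.yon S).map (trivAction G).act) :=
    mem_of_repByAlgSpWith (detectedBySchemes_of_isLocalOnBase hQb) isoInvariant_locP hP
      (quotMap Scheme.fppfPrecoverage G (trivAction G))
      ⟨(AlgSp.yon S).obj (𝟙_ (Over S)), AlgSp.IsAlgSpace.yon_obj _⟩ (BasedFunctor.id _) (IsEquivOver.refl _)
      ⟨(AlgSp.yon S).obj (G ⊗ 𝟙_ (Over S)), AlgSp.IsAlgSpace.yon_obj _⟩
      (_root_.FibCat.fpLift (GrothLib.QuotSt.actF (trivAction G)) GrothLib.QuotSt.sndF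
        (GrothLib.QuotSt.shearNatIso (trivAction G)))
      (GrothLib.QuotSt.isTwoCartOver_shear (trivAction G)) ((AlgSp.yon S).map (trivAction G).act) (Iso.refl _)
  obtain ⟨h1, h2⟩ := key (𝟙 _) (𝟙 _) (trivAction G).act (AlgSp.repWith_id _ _) (AlgSp.repWith_id _ _)
    (by rw [Category.id_comp, Category.comp_id])
  have e : (ρ_ G).inv.left ≫ (trivAction G).act.left = G.hom := by
    rw [← Over.comp_left]
    have := Over.w ((ρ_ G).inv ≫ (trivAction G).act)
    rw [show (𝟙_ (Over S)).hom = 𝟙 S from rfl] at this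
    exact (Category.comp_id _).symm.trans this
  haveI : IsIso (ρ_ G).inv.left := inferInstanceAs (IsIso ((Over.forget S).map (ρ_ G).inv))
  rw [← e]
  exact ⟨(MorphismProperty.cancel_left_of_respectsIso @Flat _ _).2 h1,
    (MorphismProperty.cancel_left_of_respectsIso @LocallyOfFinitePresentation _ _).2 h2⟩

end GrothLib.BGAtlas
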