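import Groth.Agent.Lib.BGAtlas.Param
import Mathlib.RingTheory.Flat.Basic
import Mathlib.LinearAlgebra.TensorProduct.Basic

/-!
# Lifting finite free quotients cut out by regular sequences along square-zero extensions
-/

set_option autoImplicit false
set_option backward.isDefEq.respectTransparency false
set_option backward.isDefEq.respectTransparency.types false

universe u

open TensorProduct

namespace GrothLib.BGAtlas

variable {Q Q₀ : Type u} [CommRing Q] [CommRing Q₀] {r : ℕ}

/-- For a regular sequence modulo a square-zero ideal, the ideal it spans meets that ideal in the product. -/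
theorem inf_span_le_mul (red : Q →+* Q₀) {J : Ideal Q} (hker : RingHom.ker red = J) (hsurj : Function.Surjective red)
    (f : Fin r → Q)
    (hreg : ∀ (i : Fin r) (m : Q₀), red (f i) * m ∈ Ideal.span ((fun j => red (f j)) '' {j | j < i}) →
      m ∈ Ideal.span ((fun j => red (f j)) '' {j | j < i})) :
    ∀ i ≤ r, J ⊓ Ideal.span (f '' {j | j.1 < i}) ≤ J * Ideal.span (f '' {j | j.1 < i}) := by
  intro i hi
  induction i with
  | zero => simp
  | succ i ih =>
    let a : Fin r := ⟨i, hi⟩
    have hset : {j : Fin r | j.1 < i + 1} = {j | j.1 < i} ∪ {a} := by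
      ext j
      simp only [Set.mem_setOf_eq, Set.mem_union, Set.mem_singleton_iff, Fin.ext_iff, a]
      omega
    rw [hset, Set.image_union, Set.image_singleton, Ideal.span_union]
    rintro x ⟨hxJ, hx⟩
    obtain ⟨y, hy, z, hz, rfl⟩ := Submodule.mem_sup.1 hx
    obtain ⟨m, rfl⟩ := Ideal.mem_span_singleton'.1 hz
    have h0 : red y + red m * red (f a) = 0 := by
      have : red (y + m * f a) = 0 := by rw [← RingHom.mem_ker, hker]; exact hxJ
      rwa [map_add, map_mul] at this
    have himg : (fun j => red (f j)) '' {j | j < a} = red '' (f '' {j | j.1 < i}) := by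
      rw [Set.image_image]
      rfl
    have hm : red m ∈ Ideal.span ((fun j => red (f j)) '' {j | j < a}) := by
      refine hreg a _ ?_
      rw [himg, ← Ideal.map_span, mul_comm, eq_neg_of_add_eq_zero_right h0]
      exact neg_mem (Ideal.mem_map_of_mem red hy)
    rw [himg, ← Ideal.map_span, Ideal.mem_map_iff_of_surjective red hsurj] at hm
    obtain ⟨u, hu, hum⟩ := hm
    have hj : m - u ∈ J := by rw [← hker, RingHom.mem_ker, map_sub, hum, sub_self]
    have hy' : y + u * f a ∈ J ⊓ Ideal.span (f '' {j : Fin r | j.1 < i}) := by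
      refine ⟨?_, Ideal.add_mem _ hy (Ideal.mul_mem_right _ _ hu)⟩
      have e : y + u * f a = (y + m * f a) - (m - u) * f a := by ring
      rw [e]
      exact J.sub_mem hxJ (J.mul_mem_right _ hj)
    rw [show y + m * f a = (y + u * f a) + (m - u) * f a by ring, Ideal.mul_sup]
    exact Submodule.add_mem_sup (ih (Nat.le_of_succ_le hi) hy')
      (Ideal.mul_mem_mul hj (Ideal.mem_span_singleton_self _))

variable {R : Type u} [CommRing R] {H : Type u} [CommRing H] [Algebra R H] {n : ℕ}
variable {C C₀ : Type u} [CommRing C] [Algebra R C] [CommRing C₀] [Algebra R C₀]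

set_option maxHeartbeats 400000 in
/-- Lifting a structure whose map is cut out by a regular sequence, along a square-zero extension. -/
theorem exists_lift (π : C →ₐ[R] C₀) (hπ : Function.Surjective π) (hJ : RingHom.ker π ^ 2 = ⊥)
    [Algebra C Q] [Module.Flat C Q] [Algebra R Q] [IsScalarTower R C Q] [Algebra C₀ Q₀] (ι : H →ₐ[R] Q)
    (red : Q →+* Q₀) (hred : Function.Surjective red)
    (hredC : ∀ x, red (algebraMap C Q x) = algebraMap C₀ Q₀ (π x))
    (hredk : RingHom.ker red = (RingHom.ker π).map (algebraMap C Q))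
    (p₀ : Fr R H C₀ n) (ev : Q₀ →+* Alg p₀.str)
    (hevC : ∀ x, ev (algebraMap C₀ Q₀ x) = algebraMap C₀ _ x) (hev : Function.Surjective ev)
    (hι : ∀ x, ev (red (ι x)) = p₀.hom x)
    (f : Fin r → Q₀) (hevk : RingHom.ker ev = Ideal.span (Set.range f))
    (hreg : ∀ (i : Fin r) (m : Q₀), f i * m ∈ Ideal.span (f '' {j | j < i}) →
      m ∈ Ideal.span (f '' {j | j < i})) :
    ∃ p : Fr R H C n, p.map π = p₀ := by
  classical
  obtain ⟨S₀, ψ₀⟩ := p₀
  simp only at ev hevC hev hι hevk
  let Jc : Ideal C := RingHom.ker π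
  let JQ : Ideal Q := Jc.map (algebraMap C Q)
  choose fl hfl using fun i => hred (f i)
  let I : Ideal Q := Ideal.span (Set.range fl)
  have hImap : I.map red = RingHom.ker ev := by
    rw [hevk, Ideal.map_span, ← Set.range_comp]
    congr 1
    exact congrArg Set.range (funext hfl)
  have hI : ∀ z ∈ I, ev (red z) = 0 := fun z hz => by
    rw [← RingHom.mem_ker, ← hImap]
    exact Ideal.mem_map_of_mem red hz
  have hinf : JQ ⊓ I ≤ JQ * I := by
    have h := inf_span_le_mul red hredk hred fl
      (by
        intro i m hm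
        simp only [hfl] at hm ⊢
        exact hreg i m hm) r le_rfl
    have e : fl '' {j : Fin r | j.1 < r} = Set.range fl := by
      rw [← Set.image_univ]
      congr 1
      ext j
      simp
    rwa [e] at h
  choose s hs using hπ
  have hsJ : ∀ x : C, s (π x) - x ∈ Jc := fun x => by rw [RingHom.mem_ker, map_sub, hs, sub_self]
  have hJmul : ∀ a b : C, a ∈ Jc → b ∈ Jc → a * b = 0 := fun a b ha hb => by
    have : a * b ∈ Jc ^ 2 := by rw [pow_two]; exact Ideal.mul_mem_mul ha hb
    rwa [hJ] at this
  have hsc : ∀ (j : C) (x y : C), j ∈ Jc → π x = π y → j * x = j * y := fun j x y hj h => by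
    rw [← sub_eq_zero, ← mul_sub]
    exact hJmul _ _ hj (by rw [RingHom.mem_ker, map_sub, h, sub_self])
  let φ : Q → Fin (n + 1) → C₀ := fun z => Alg.coords (ev (red z))
  have hφadd : ∀ x y, φ (x + y) = φ x + φ y := fun x y => by simp only [φ, map_add]
  have hφsmul : ∀ (c : C) (x : Q), φ (c • x) = π c • φ x := fun c x => by
    simp only [φ]
    rw [Algebra.smul_def c x, map_mul, map_mul, hredC, hevC, ← Algebra.smul_def, map_smul]
  let β : Jc →ₗ[C] Q →ₗ[C] (Fin (n + 1) → C) := LinearMap.mk₂ C (fun j z k => (j : C) * s (φ z k))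
    (fun j j' z => funext fun k => add_mul _ _ _)
    (fun c j z => funext fun k => mul_assoc c (j : C) _)
    (fun j z z' => funext fun k => by
      refine (hsc _ _ (s (φ z k) + s (φ z' k)) j.2 ?_).trans (mul_add _ _ _)
      rw [hs, map_add, hs, hs, hφadd]
      rfl)
    (fun c j z => funext fun k => by
      refine (hsc _ _ (c * s (φ z k)) j.2 ?_).trans (mul_left_comm _ _ _)
      rw [hs, map_mul, hs, hφsmul]
      rfl)
  let μ : Jc ⊗[C] Q →ₗ[C] (Fin (n + 1) → C) := TensorProduct.lift β
  let ν : Jc ⊗[C] Q →ₗ[C] Q := (TensorProduct.lid C Q).toLinearMap.comp ((Jc.subtype).rTensor Q)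
  have hν : Function.Injective ν :=
    (TensorProduct.lid C Q).injective.comp (Module.Flat.rTensor_preserves_injective_linearMap _ Subtype.val_injective)
  have hνt : ∀ (j : Jc) (z : Q), ν (j ⊗ₜ z) = (j : C) • z := fun j z => rfl
  have hmulI : ∀ x ∈ JQ * I, ∃ t, ν t = x ∧ μ t = 0 := by
    intro x hx
    refine Submodule.mul_induction_on hx (fun a ha b hb => ?_) ?_
    · induction ha using Submodule.span_induction with
      | mem a ha =>
        obtain ⟨j, hj, rfl⟩ := ha
        refine ⟨(⟨j, hj⟩ : Jc) ⊗ₜ b, by rw [hνt, Algebra.smul_def], funext fun k => ?_⟩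
        change j * s (φ b k) = 0
        refine (hsc _ _ 0 hj ?_).trans (mul_zero _)
        rw [hs, map_zero]
        simp only [φ, hI b hb, map_zero, Pi.zero_apply]
      | zero => exact ⟨0, by rw [map_zero, zero_mul], map_zero _⟩
      | add a a' _ _ h h' =>
        obtain ⟨t, ht, ht'⟩ := h
        obtain ⟨t', hu, hu'⟩ := h'
        exact ⟨t + t', by rw [map_add, ht, hu, add_mul], by rw [map_add, ht', hu', add_zero]⟩
      | smul c a _ h =>
        obtain ⟨t, ht, ht'⟩ := h
        let L : Jc ⊗[C] Q →ₗ[C] Jc ⊗[C] Q := (LinearMap.mulLeft C c).lTensor Jc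
        have h1 : ∀ t, ν (L t) = c * ν t := fun t => by
          induction t with
          | zero => simp
          | tmul j z => simp [L, hνt]
          | add a b ha hb => rw [map_add, map_add, map_add, mul_add, ha, hb]
        refine ⟨L t, by rw [h1, ht, smul_eq_mul, mul_assoc], ?_⟩
        have h2 : ∀ (t : Jc ⊗[C] Q) (k : Fin (n + 1)), μ (L t) k =
            ∑ i, μ t i * s (Alg.coords (ev (red c) * Alg.basis S₀ i) k) := fun t k => by
          induction t with
          | zero => simp
          | tmul j z =>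
            change (j : C) * s (φ (c * z) k) = ∑ i, (j : C) * s (φ z i) * _
            simp only [mul_assoc, ← Finset.mul_sum]
            refine hsc _ _ _ j.2 ?_
            rw [hs, map_sum]
            simp only [map_mul, hs]
            change Alg.coords (ev (red (c * z))) k = _
            rw [map_mul, map_mul]
            conv_lhs => rw [← Alg.sum_coords (ev (red z)), Finset.mul_sum]
            simp only [mul_smul_comm, map_sum, map_smul, Finset.sum_apply, Pi.smul_apply, smul_eq_mul]
            rfl
          | add a b ha hb =>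
            simp only [map_add, Pi.add_apply, add_mul, Finset.sum_add_distrib, ha, hb]
        exact funext fun k => by simp [h2, ht']
    · rintro a b ⟨t, ht, ht'⟩ ⟨t', hu, hu'⟩
      exact ⟨t + t', by rw [map_add, ht, hu], by rw [map_add, ht', hu', add_zero]⟩
  choose e₀ he₀ using fun k => hev (Alg.basis S₀ k)
  choose e' he' using fun k => hred (e₀ k)
  let e : Fin (n + 1) → Q := Function.update e' 0 1
  have he : ∀ k, ev (red (e k)) = Alg.basis S₀ k := fun k => by
    by_cases hk : k = 0
    · subst hk
      simp [e, Alg.one_def]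
    · simp [e, Function.update_of_ne hk, he', he₀]
  have hφe : ∀ (c : Fin (n + 1) → C) (k : Fin (n + 1)), φ (∑ i, c i • e i) k = π (c k) := fun c k => by
    have h1 : ∀ i, ev (red (c i • e i)) = π (c i) • Alg.basis S₀ i := fun i => by
      rw [Algebra.smul_def (c i) (e i), map_mul, map_mul, hredC, hevC, he, ← Algebra.smul_def]
    simp only [φ, map_sum, h1, map_smul, Finset.sum_apply, Pi.smul_apply, Alg.coords_basis, smul_eq_mul]
    simp [Pi.single_apply]
  have happrox : ∀ z : Q, z - ∑ i, s (φ z i) • e i ∈ I ⊔ JQ := fun z => by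
    have h0 : red (z - ∑ i, s (φ z i) • e i) ∈ I.map red := by
      rw [hImap, RingHom.mem_ker]
      refine Alg.ext fun k => ?_
      change φ _ k = 0
      have : φ (z - ∑ i, s (φ z i) • e i) = φ z - φ (∑ i, s (φ z i) • e i) := by simp only [φ, map_sub]
      rw [this, Pi.sub_apply, hφe, hs, sub_self]
    rw [Ideal.mem_map_iff_of_surjective red hred] at h0
    obtain ⟨y, hy, hyz⟩ := h0
    rw [show z - ∑ i, s (φ z i) • e i = y + (z - ∑ i, s (φ z i) • e i - y) by abel]
    refine Submodule.add_mem_sup hy ?_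
    rw [show JQ = RingHom.ker red from hredk.symm, RingHom.mem_ker, map_sub, hyz, sub_self]
  let mkI : Q →ₐ[C] Q ⧸ I := Ideal.Quotient.mkₐ C I
  let W : Submodule C (Q ⧸ I) := Submodule.span C (Set.range fun i => mkI (e i))
  have hWe : ∀ c : Fin (n + 1) → C, mkI (∑ i, c i • e i) ∈ W := fun c => by
    rw [map_sum]
    exact Submodule.sum_mem _ fun i _ => by
      rw [map_smul]; exact Submodule.smul_mem _ _ (Submodule.subset_span ⟨i, rfl⟩)
  have hJJ : ∀ j ∈ Jc, ∀ y ∈ JQ, j • y = (0 : Q) := fun j hj y hy => by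
    have : algebraMap C Q j * y ∈ JQ * JQ := Ideal.mul_mem_mul (Ideal.mem_map_of_mem _ hj) hy
    rw [← Ideal.map_mul, ← pow_two, hJ, Ideal.map_bot] at this
    rw [Algebra.smul_def]
    exact this
  have hWJ : ∀ x ∈ JQ, mkI x ∈ W := fun x hx => by
    have hx' : x ∈ Jc • (⊤ : Submodule C Q) := by rw [Ideal.smul_top_eq_map]; exact hx
    refine Submodule.smul_induction_on hx' (fun j hj z _ => ?_) fun a b ha hb => by
      rw [map_add]; exact W.add_mem ha hb
    obtain ⟨a, ha, b, hb, hab⟩ := Submodule.mem_sup.1 (happrox z)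
    have hz : z = ∑ i, s (φ z i) • e i + (a + b) := by rw [hab]; abel
    rw [hz, smul_add, smul_add, hJJ j hj b hb, add_zero, map_add, Finset.smul_sum, map_smul mkI j a,
      show mkI a = 0 from Ideal.Quotient.eq_zero_iff_mem.2 ha, smul_zero, add_zero]
    simp only [smul_smul]
    exact hWe _
  have hspan : ⊤ ≤ W := fun x _ => by
    obtain ⟨z, rfl⟩ := Ideal.Quotient.mk_surjective x
    obtain ⟨a, ha, b, hb, hab⟩ := Submodule.mem_sup.1 (happrox z)
    have hz : z = ∑ i, s (φ z i) • e i + (a + b) := by rw [hab]; abel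
    change mkI z ∈ W
    rw [hz, map_add, map_add, show mkI a = 0 from Ideal.Quotient.eq_zero_iff_mem.2 ha, zero_add]
    exact W.add_mem (hWe _) (hWJ b hb)
  have hli : LinearIndependent C fun i => mkI (e i) := by
    rw [Fintype.linearIndependent_iff]
    intro c hc
    have hxI : ∑ i, c i • e i ∈ I := Ideal.Quotient.eq_zero_iff_mem.1 (by
      rw [← hc]
      exact (map_sum mkI _ _).trans (Finset.sum_congr rfl fun i _ => map_smul _ _ _))
    have hcJ : ∀ k, c k ∈ Jc := fun k => by
      rw [RingHom.mem_ker, ← hφe c k]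
      simp only [φ, hI _ hxI, map_zero, Pi.zero_apply]
    have hxJ : ∑ i, c i • e i ∈ JQ := sum_mem fun i _ => by
      rw [Algebra.smul_def]
      exact Ideal.mul_mem_right _ _ (Ideal.mem_map_of_mem _ (hcJ i))
    obtain ⟨t, ht, ht'⟩ := hmulI _ (hinf ⟨hxJ, hxI⟩)
    have : t = ∑ i, (⟨c i, hcJ i⟩ : Jc) ⊗ₜ e i := hν (by
      rw [ht, map_sum]
      exact Finset.sum_congr rfl fun i _ => (hνt ⟨c i, hcJ i⟩ (e i)).symm)
    intro k
    have hk : μ t k = c k := by
      rw [this, map_sum, Finset.sum_apply, Finset.sum_eq_single k]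
      · change c k * s (φ (e k) k) = c k
        refine (hsc _ _ 1 (hcJ k) ?_).trans (mul_one _)
        simp [hs, φ, he, Alg.coords_basis]
      · intro i _ hik
        change c i * s (φ (e i) k) = 0
        refine (hsc _ _ 0 (hcJ i) ?_).trans (mul_zero _)
        simp [hs, φ, he, Alg.coords_basis, hik]
      · simp
    rw [← hk, ht']
    rfl
  let v := Module.Basis.mk hli hspan
  have hv : ∀ i, v i = mkI (e i) := fun i => Module.Basis.mk_apply hli hspan i
  have hπv : ∀ (z : Q) (k : Fin (n + 1)), π (v.repr (mkI z) k) = φ z k := fun z k => by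
    have hmem : z - ∑ i, v.repr (mkI z) i • e i ∈ I := Ideal.Quotient.eq_zero_iff_mem.1 (by
      change mkI _ = 0
      rw [map_sub, map_sum, sub_eq_zero]
      simp only [map_smul, ← hv]
      exact (v.sum_repr _).symm)
    have h1 := congrArg (fun w => Alg.coords w k) (hI _ hmem)
    rw [← hφe (fun i => v.repr (mkI z) i) k]
    refine (sub_eq_zero.1 ?_).symm
    simpa [φ, map_sub] using h1
  obtain ⟨S, E, hSc, hE⟩ := exists_str_of_basis v (by rw [hv]; simp [e])
  have hEco : ∀ x k, Alg.coords (E.symm x) k = v.repr x k := fun x k => by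
    obtain ⟨y, rfl⟩ := E.surjective x
    rw [E.symm_apply_apply]
    conv_rhs => rw [← Alg.sum_coords y, map_sum]
    simp only [map_smul, hE]
    rw [map_sum, Finsupp.coe_finsetSum, Finset.sum_apply]
    simp [Finsupp.single_apply]
  refine ⟨⟨S, ((E.symm.toAlgHom.comp mkI).restrictScalars R).comp ι⟩,
    Fr.ext' (fun i j k => ?_) fun x k => ?_⟩
  · rw [Fr.map_c]
    change π (S.c i j k) = S₀.c i j k
    rw [hSc, hv, hv, ← map_mul, hπv]
    simp only [φ, map_mul, he, Alg.basis_mul, Alg.coords_mk]
  · rw [Fr.map_coords]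
    change π (Alg.coords (E.symm (mkI (ι x))) k) = _
    rw [hEco, hπv]
    exact congrArg (fun w => Alg.coords w k) (hι x)

end GrothLib.BGAtlas
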