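import Groth.Agent.Lib.BGAtlas.Param
import Mathlib.RingTheory.Norm.Defs
import Mathlib.LinearAlgebra.Matrix.ToLin

/-!
# Units of the algebra of a structure via the determinant of multiplication
-/

set_option autoImplicit false
set_option backward.isDefEq.respectTransparency false
set_option backward.isDefEq.respectTransparency.types false

universe u v

namespace GrothLib.BGAtlas.Alg

variable {C : Type u} [CommRing C] {n : ℕ} {S : Str C n} {D : Type v} [CommRing D]

/-- The determinant of multiplication. -/
noncomputable def det (y : Alg S) : C := (Algebra.leftMulMatrix (basis S) y).det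

theorem leftMulMatrix_apply (y : Alg S) (i j : Fin (n + 1)) :
    Algebra.leftMulMatrix (basis S) y i j = coords (y * basis S j) i := by
  rw [Algebra.leftMulMatrix_eq_repr_mul, repr_basis]

theorem det_map (f : C →+* D) (y : Alg S) : f (det y) = det (map S f y) := by
  rw [det, det, RingHom.map_det]
  congr 1
  ext i j
  rw [RingHom.mapMatrix_apply, Matrix.map_apply, leftMulMatrix_apply, leftMulMatrix_apply, ← map_basis, ← map_mul,
    coords_map]

theorem isUnit_det {y : Alg S} (hy : IsUnit y) : IsUnit (det y) :=
  (Matrix.isUnit_iff_isUnit_det _).1 (hy.map (Algebra.leftMulMatrix (basis S)))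

theorem isUnit_of_isUnit_det {y : Alg S} (hy : IsUnit (det y)) : IsUnit y := by
  let M := Algebra.leftMulMatrix (basis S) y
  have hM : IsUnit M := (Matrix.isUnit_iff_isUnit_det _).2 hy
  obtain ⟨w, hw⟩ := Matrix.mulVec_surjective_iff_isUnit.2 hM (Pi.single 0 1)
  refine IsUnit.of_mul_eq_one (mk w : Alg S) (ext fun i => ?_)
  rw [coords_one, ← hw]
  change _ = ∑ j, M i j * w j
  conv_lhs => rw [← sum_coords (mk w : Alg S), Finset.mul_sum]
  simp only [map_sum, mul_smul_comm, map_smul, Finset.sum_apply, Pi.smul_apply, coords_mk, smul_eq_mul]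
  exact Finset.sum_congr rfl fun j _ => by rw [mul_comm, ← leftMulMatrix_apply]

end GrothLib.BGAtlas.Alg
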