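import Groth.Agent.Lib.BGAtlas.Lift
import Groth.Agent.Lib.BGAtlas.Regular
import Groth.Agent.Lib.FibreFlat.Slice
import Mathlib.RingTheory.Etale.Basic
import Mathlib.RingTheory.Smooth.Basic

/-!
# Formal smoothness of the space of structures at a regularly cut out point
-/

set_option autoImplicit false
set_option linter.style.haveILetI false
set_option backward.isDefEq.respectTransparency false
set_option backward.isDefEq.respectTransparency.types false

universe u

open TensorProduct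

namespace GrothLib.BGAtlas

set_option maxHeartbeats 1000000 in
/-- The space of structures is formally smooth where the structure is cut out by a regular sequence. -/
theorem formallySmooth_of_chart {R : Type u} [CommRing R] {H : Type u} [CommRing H] [Algebra R H]
    {A : Type u} [CommRing A] [Algebra R A] [Module.Flat R A] (ι₀ : H →ₐ[R] A) {n r : ℕ}
    {B : Type u} [CommRing B] [Algebra R B] (b : Fr R H B n)
    (hu : ∀ (C : Type u) [CommRing C] [Algebra R C] (p : Fr R H C n), ∃! f : B →ₐ[R] C, b.map f = p)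
    {B₁ : Type u} [CommRing B₁] [Algebra R B₁]
    {B₂ : Type u} [CommRing B₂] [Algebra R B₂] [Algebra B B₂] [IsScalarTower R B B₂] [Algebra.FormallyEtale B B₂]
    [Algebra B₁ B₂] [IsScalarTower R B₁ B₂]
    (Ψ : B₁ ⊗[R] A →ₐ[B₁] Alg (b.map (IsScalarTower.toAlgHom R B B₂)).str)
    (hΨι : ∀ x, Ψ (1 ⊗ₜ ι₀ x) = (b.map (IsScalarTower.toAlgHom R B B₂)).hom x)
    (g : B₁ ⊗[R] A) (hg : IsUnit (Ψ g))
    (σ : Fin (n + 1) → B₁ ⊗[R] A) (hσ : ∀ j, Ψ (σ j) = Alg.basis _ j)
    (f : Fin r → B₁ ⊗[R] A) (hf : ∀ i, Ψ (f i) = 0)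
    (hdec : ∀ x, ∃ c : Fin (n + 1) → B₁, g * (x - ∑ j, c j • σ j) ∈ Ideal.span (Set.range f))
    (hflat : ((algebraMap (B₁ ⊗[R] A) (Localization.Away g)).comp
      (MvPolynomial.aeval (R := B₁) f).toRingHom).Flat) :
    Algebra.FormallySmooth R B₂ := by
  classical
  refine Algebra.FormallySmooth.of_comp_surjective fun C _ _ J hJ u₀ => ?_
  let b₂ := b.map (IsScalarTower.toAlgHom R B B₂)
  let mkJ : C →ₐ[R] C ⧸ J := Ideal.Quotient.mkₐ R J
  let p₀ : Fr R H (C ⧸ J) n := b₂.map u₀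
  let u₁ : B₁ →ₐ[R] C ⧸ J := u₀.comp (IsScalarTower.toAlgHom R B₁ B₂)
  letI : Algebra B₁ (C ⧸ J) := u₁.toRingHom.toAlgebra
  haveI : IsScalarTower R B₁ (C ⧸ J) := IsScalarTower.of_algebraMap_eq fun x => (u₁.commutes x).symm
  let P := B₁ ⊗[R] A
  let Pg := Localization.Away g
  -- the evaluation
  let evP : P →ₐ[B₁] Alg p₀.str :=
    { (Alg.map b₂.str u₀.toRingHom).comp Ψ.toRingHom with
      commutes' := fun x => by
        change Alg.map b₂.str u₀.toRingHom (Ψ (algebraMap B₁ P x)) = algebraMap B₁ (Alg p₀.str) x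
        rw [Ψ.commutes, Alg.algebraMap_eq, Alg.algebraMap_eq, ← IsScalarTower.algebraMap_smul B₂ x,
          Alg.map_smul', map_one, ← IsScalarTower.algebraMap_smul (C ⧸ J) x (1 : Alg p₀.str)]
        rfl }
  have hevP : ∀ x, evP x = Alg.map b₂.str u₀.toRingHom (Ψ x) := fun x => rfl
  have hevg : ∀ y : Submonoid.powers g, IsUnit (evP y) := by
    rintro ⟨_, k, rfl⟩
    simp only [map_pow, hevP]
    exact (hg.map _).pow k
  let evg : Pg →ₐ[B₁] Alg p₀.str := IsLocalization.liftAlgHom hevg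
  have hevga : ∀ x, evg (algebraMap P Pg x) = evP x := fun x => IsLocalization.lift_eq _ x
  let Q₀ := (C ⧸ J) ⊗[B₁] Pg
  let ev : Q₀ →ₐ[C ⧸ J] Alg p₀.str :=
    Algebra.TensorProduct.lift (Algebra.ofId (C ⧸ J) (Alg p₀.str)) evg fun _ _ => Commute.all _ _
  have hev1 : ∀ x, ev ((1 : C ⧸ J) ⊗ₜ algebraMap P Pg x) = evP x := fun x => by
    refine (Algebra.TensorProduct.lift_tmul _ _ _ _ _).trans ?_
    rw [map_one, one_mul, hevga]
  let jP : P →+* Q₀ := (Algebra.TensorProduct.includeRight : Pg →ₐ[B₁] Q₀).toRingHom.comp (algebraMap P Pg)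
  have hjP : ∀ (c : B₁) (x : P), jP (c • x) = u₁ c • jP x := fun c x => by
    change (1 : C ⧸ J) ⊗ₜ[B₁] algebraMap P Pg (c • x) = u₁ c • ((1 : C ⧸ J) ⊗ₜ[B₁] algebraMap P Pg x)
    rw [show algebraMap P Pg (c • x) = c • algebraMap P Pg x from map_smul (IsScalarTower.toAlgHom B₁ P Pg) c x,
      TensorProduct.tmul_smul, TensorProduct.smul_tmul', TensorProduct.smul_tmul',
      Algebra.smul_def c (1 : C ⧸ J), smul_eq_mul]
    rfl
  have hjg : IsUnit (jP g) := (IsLocalization.Away.algebraMap_isUnit (S := Pg) g).map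
    (Algebra.TensorProduct.includeRight : Pg →ₐ[B₁] Q₀)
  let I₀ : Ideal Q₀ := Ideal.span (Set.range fun i => jP (f i))
  let T : Submodule (C ⧸ J) Q₀ := Submodule.span (C ⧸ J) (Set.range fun j => jP (σ j)) ⊔ I₀.restrictScalars (C ⧸ J)
  have hTP : ∀ x, jP x ∈ T := fun x => by
    obtain ⟨c, hc⟩ := hdec x
    have h1 : jP (g * (x - ∑ j, c j • σ j)) ∈ I₀ := by
      have := Ideal.mem_map_of_mem jP hc
      rwa [Ideal.map_span, ← Set.range_comp] at this
    rw [map_mul] at h1
    have h2 := (Ideal.unit_mul_mem_iff_mem _ hjg).1 h1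
    rw [map_sub, map_sum] at h2
    rw [← add_sub_cancel (∑ j, jP (c j • σ j)) (jP x)]
    refine Submodule.add_mem_sup (Submodule.sum_mem _ fun j _ => ?_) h2
    rw [hjP]
    exact Submodule.smul_mem _ _ (Submodule.subset_span ⟨j, rfl⟩)
  have hTg : ∀ y : Q₀, ∃ k : ℕ, jP g ^ k * y ∈ T := by
    have key : ∀ (k : ℕ) (y : Q₀), y ∈ T → jP g ^ k * y ∈ T := fun k y hy => by
      obtain ⟨s, hs, t, ht, rfl⟩ := Submodule.mem_sup.1 hy
      rw [mul_add]
      refine T.add_mem ?_ (Submodule.mem_sup_right (I₀.mul_mem_left _ ht))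
      clear hy
      induction hs using Submodule.span_induction with
      | mem z hz =>
        obtain ⟨j, rfl⟩ := hz
        rw [← map_pow, ← map_mul]
        exact hTP _
      | zero => rw [mul_zero]; exact zero_mem _
      | add a a' _ _ ha ha' => rw [mul_add]; exact add_mem ha ha'
      | smul c a _ ha => rw [mul_smul_comm]; exact T.smul_mem _ ha
    intro y
    induction y using TensorProduct.induction_on with
    | zero => exact ⟨0, by rw [mul_zero]; exact zero_mem _⟩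
    | add a a' ha ha' =>
      obtain ⟨k, hk⟩ := ha
      obtain ⟨k', hk'⟩ := ha'
      refine ⟨k + k', ?_⟩
      rw [mul_add]
      refine add_mem ?_ ?_
      · rw [add_comm k, pow_add, mul_assoc]
        exact key _ _ hk
      · rw [pow_add, mul_assoc]
        exact key _ _ hk'
    | tmul c z =>
      obtain ⟨⟨x, ⟨_, k, rfl⟩⟩, hx⟩ := IsLocalization.surj (Submonoid.powers g) z
      refine ⟨k, ?_⟩
      have : jP g ^ k * (c ⊗ₜ[B₁] z) = c • jP x := by
        rw [← map_pow]
        change ((1 : C ⧸ J) ⊗ₜ[B₁] algebraMap P Pg (g ^ k)) * (c ⊗ₜ[B₁] z) = c • ((1 : C ⧸ J) ⊗ₜ[B₁] algebraMap P Pg x)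
        rw [Algebra.TensorProduct.tmul_mul_tmul, one_mul, mul_comm (algebraMap P Pg (g ^ k)) z, hx,
          TensorProduct.smul_tmul', smul_eq_mul, mul_one]
      rw [this]
      exact T.smul_mem _ (hTP x)
  have hevσ : ∀ j, ev (jP (σ j)) = Alg.basis p₀.str j := fun j => by
    refine (hev1 (σ j)).trans ?_
    rw [hevP, hσ, Alg.map_basis]
    rfl
  have hevI : ∀ y ∈ I₀, ev y = 0 := fun y hy => by
    have hle : I₀ ≤ RingHom.ker ev := Ideal.span_le.2 (by
      rintro _ ⟨i, rfl⟩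
      refine (hev1 (f i)).trans ?_
      rw [hevP, hf, map_zero])
    exact hle hy
  have hevsurj : Function.Surjective ev := fun y => ⟨∑ j, Alg.coords y j • jP (σ j), by
    rw [map_sum]
    simp only [map_smul, hevσ]
    exact Alg.sum_coords y⟩
  have hevker : RingHom.ker ev.toRingHom = I₀ := by
    refine le_antisymm (fun y hy => ?_) hevI
    obtain ⟨k, hk⟩ := hTg y
    obtain ⟨s, hs, t, ht, hst⟩ := Submodule.mem_sup.1 hk
    obtain ⟨c, rfl⟩ := (Submodule.mem_span_range_iff_exists_fun _).1 hs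
    have h0 := congrArg ev hst
    rw [map_add, map_mul, (hevI t ht), show ev y = 0 from hy, mul_zero, add_zero, map_sum] at h0
    simp only [map_smul, hevσ] at h0
    have hc : ∀ j, c j = 0 := Fintype.linearIndependent_iff.1 (Alg.basis p₀.str).linearIndependent c h0
    simp only [hc, zero_smul, Finset.sum_const_zero, zero_add] at hst
    exact (Ideal.unit_mul_mem_iff_mem _ (hjg.pow k)).1 (hst ▸ ht)
  -- the lift of the ambient algebra
  let ρ : C ⊗[R] A →ₐ[R] (C ⧸ J) ⊗[R] A := Algebra.TensorProduct.map mkJ (AlgHom.id R A)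
  have hρs : Function.Surjective ρ := TensorProduct.map_surjective Ideal.Quotient.mk_surjective fun x => ⟨x, rfl⟩
  obtain ⟨g', hg'⟩ := hρs (Algebra.TensorProduct.map u₁ (AlgHom.id R A) g)
  let Q := Localization.Away g'
  haveI : Module.Flat C Q := Module.Flat.trans C (C ⊗[R] A) Q
  let θA : A →ₐ[R] Q₀ := ((Algebra.TensorProduct.includeRight : Pg →ₐ[B₁] Q₀).restrictScalars R).comp
    ((IsScalarTower.toAlgHom R P Pg).comp Algebra.TensorProduct.includeRight)
  let Γ : (C ⧸ J) ⊗[R] A →ₐ[R] Q₀ :=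
    Algebra.TensorProduct.lift Algebra.TensorProduct.includeLeft θA fun _ _ => Commute.all _ _
  have hΓ : ∀ x, Γ (Algebra.TensorProduct.map u₁ (AlgHom.id R A) x) = jP x := fun x => by
    induction x using TensorProduct.induction_on with
    | zero => simp only [map_zero]
    | add a a' ha ha' => simp only [map_add, ha, ha']
    | tmul c α =>
      rw [show c ⊗ₜ[R] α = c • ((1 : B₁) ⊗ₜ[R] α) by rw [TensorProduct.smul_tmul', smul_eq_mul, mul_one], hjP,
        TensorProduct.smul_tmul', smul_eq_mul, mul_one, Algebra.TensorProduct.map_tmul]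
      refine (Algebra.TensorProduct.lift_tmul _ _ _ _ _).trans ?_
      change (u₁ c ⊗ₜ[B₁] (1 : Pg)) * ((1 : C ⧸ J) ⊗ₜ[B₁] algebraMap P Pg (1 ⊗ₜ α)) =
        u₁ c • ((1 : C ⧸ J) ⊗ₜ[B₁] algebraMap P Pg (1 ⊗ₜ α))
      rw [Algebra.TensorProduct.tmul_mul_tmul, mul_one, one_mul, TensorProduct.smul_tmul', smul_eq_mul, mul_one]
  have hunit : IsUnit ((Γ.comp ρ).toRingHom g') := by
    change IsUnit (Γ (ρ g'))
    rw [hg', hΓ]
    exact hjg
  let red : Q →+* Q₀ := IsLocalization.Away.lift g' hunit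
  have hred : ∀ t, red (algebraMap (C ⊗[R] A) Q t) = Γ (ρ t) := fun t => IsLocalization.Away.lift_eq _ _ t
  have hredC : ∀ x, red (algebraMap C Q x) = algebraMap (C ⧸ J) Q₀ (mkJ x) := fun x => by
    rw [IsScalarTower.algebraMap_apply C (C ⊗[R] A) Q, hred, Algebra.TensorProduct.algebraMap_apply]
    refine (congrArg Γ (Algebra.TensorProduct.map_tmul _ _ _ _)).trans ?_
    refine (Algebra.TensorProduct.lift_tmul _ _ _ _ _).trans ?_
    erw [map_one θA, mul_one]
    rfl
  have hredsurj : Function.Surjective red := by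
    have h1 : ∀ x, ∃ t, red t = jP x := fun x => by
      obtain ⟨t, ht⟩ := hρs (Algebra.TensorProduct.map u₁ (AlgHom.id R A) x)
      exact ⟨algebraMap _ Q t, by rw [hred, ht, hΓ]⟩
    intro y
    induction y using TensorProduct.induction_on with
    | zero => exact ⟨0, map_zero _⟩
    | add a a' ha ha' =>
      obtain ⟨s, rfl⟩ := ha
      obtain ⟨s', rfl⟩ := ha'
      exact ⟨s + s', map_add _ _ _⟩
    | tmul c z =>
      obtain ⟨⟨x, ⟨_, k, rfl⟩⟩, hx⟩ := IsLocalization.surj (Submonoid.powers g) z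
      obtain ⟨c', rfl⟩ := Ideal.Quotient.mk_surjective c
      obtain ⟨t, ht⟩ := h1 x
      obtain ⟨w, hw⟩ := (IsLocalization.Away.algebraMap_isUnit (S := Q) g').pow k
      refine ⟨algebraMap C Q c' * (t * ↑w⁻¹), ?_⟩
      have hgk : red (algebraMap _ Q g' ^ k) = jP g ^ k := by rw [map_pow, hred, hg', hΓ]
      have hz : red (t * ↑w⁻¹) = (1 : C ⧸ J) ⊗ₜ[B₁] z := by
        apply (hjg.pow k).mul_left_cancel
        rw [← hgk, ← map_mul, ← mul_assoc, ← hw, mul_comm (w : Q) t, mul_assoc, Units.mul_inv, mul_one, ht, hw, hgk,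
          ← map_pow]
        change (1 : C ⧸ J) ⊗ₜ[B₁] algebraMap P Pg x =
          ((1 : C ⧸ J) ⊗ₜ[B₁] algebraMap P Pg (g ^ k)) * ((1 : C ⧸ J) ⊗ₜ[B₁] z)
        rw [Algebra.TensorProduct.tmul_mul_tmul, one_mul, mul_comm (algebraMap P Pg (g ^ k)) z, hx]
      rw [map_mul, hredC, hz, Algebra.TensorProduct.algebraMap_apply, Algebra.TensorProduct.tmul_mul_tmul, mul_one,
        one_mul]
      rfl
  let JQ : Ideal Q := J.map (algebraMap C Q)
  let cbar : C ⧸ J →+* Q ⧸ JQ := Ideal.quotientMap JQ (algebraMap C Q) Ideal.le_comap_map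
  have hcbar : ∀ x : C, cbar (Ideal.Quotient.mk J x) = Ideal.Quotient.mk JQ (algebraMap C Q x) := fun x => rfl
  let αbar : A →ₐ[R] Q ⧸ JQ := (Ideal.Quotient.mkₐ R JQ).comp
    ((IsScalarTower.toAlgHom R (C ⊗[R] A) Q).comp Algebra.TensorProduct.includeRight)
  letI : Algebra (C ⧸ J) (Q ⧸ JQ) := cbar.toAlgebra
  haveI : IsScalarTower R (C ⧸ J) (Q ⧸ JQ) := IsScalarTower.of_algebraMap_eq fun x => by
    change algebraMap R (Q ⧸ JQ) x = cbar (Ideal.Quotient.mk J (algebraMap R C x))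
    rw [hcbar, ← IsScalarTower.algebraMap_apply R C Q]
    rfl
  letI : Algebra B₁ (Q ⧸ JQ) := (cbar.comp u₁.toRingHom).toAlgebra
  haveI : IsScalarTower B₁ (C ⧸ J) (Q ⧸ JQ) := IsScalarTower.of_algebraMap_eq fun _ => rfl
  let Γ' : (C ⧸ J) ⊗[R] A →ₐ[R] Q ⧸ JQ :=
    Algebra.TensorProduct.lift (IsScalarTower.toAlgHom R (C ⧸ J) (Q ⧸ JQ)) αbar fun _ _ => Commute.all _ _
  have hΓ' : ∀ t, Γ' (ρ t) = Ideal.Quotient.mk JQ (algebraMap _ Q t) := fun t => by
    induction t using TensorProduct.induction_on with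
    | zero => simp only [map_zero]
    | add a a' ha ha' => simp only [map_add, ha, ha']
    | tmul c α =>
      refine (Algebra.TensorProduct.lift_tmul _ _ _ _ _).trans ?_
      change cbar (Ideal.Quotient.mk J c) * Ideal.Quotient.mk JQ (algebraMap (C ⊗[R] A) Q (1 ⊗ₜ α)) = _
      rw [hcbar, IsScalarTower.algebraMap_apply C (C ⊗[R] A) Q, ← map_mul, ← map_mul,
        Algebra.TensorProduct.algebraMap_apply, Algebra.TensorProduct.tmul_mul_tmul, mul_one, one_mul]
      rfl
  let Θp : P →ₐ[B₁] Q ⧸ JQ :=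
    { Γ'.toRingHom.comp (Algebra.TensorProduct.map u₁ (AlgHom.id R A)).toRingHom with
      commutes' := fun x => by
        change Γ' (Algebra.TensorProduct.map u₁ (AlgHom.id R A) (x ⊗ₜ 1)) = cbar (u₁ x)
        rw [Algebra.TensorProduct.map_tmul, map_one]
        refine (Algebra.TensorProduct.lift_tmul _ _ _ _ _).trans ?_
        rw [map_one, mul_one]
        rfl }
  have hΘpg : ∀ y : Submonoid.powers g, IsUnit (Θp y) := by
    rintro ⟨_, k, rfl⟩
    change IsUnit (Θp (g ^ k))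
    rw [map_pow]
    refine IsUnit.pow k ?_
    change IsUnit (Γ' (Algebra.TensorProduct.map u₁ (AlgHom.id R A) g))
    rw [← hg', hΓ']
    exact (IsLocalization.Away.algebraMap_isUnit (S := Q) g').map _
  let Θ : Q₀ →ₐ[C ⧸ J] Q ⧸ JQ :=
    Algebra.TensorProduct.lift (Algebra.ofId (C ⧸ J) (Q ⧸ JQ)) (IsLocalization.liftAlgHom hΘpg) fun _ _ => Commute.all _ _
  have hΘ : Θ.toRingHom.comp red = Ideal.Quotient.mk JQ := by
    refine IsLocalization.ringHom_ext (Submonoid.powers g') (RingHom.ext fun t => ?_)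
    change Θ (red (algebraMap _ Q t)) = Ideal.Quotient.mk JQ (algebraMap _ Q t)
    rw [hred, ← hΓ']
    generalize ρ t = z
    induction z using TensorProduct.induction_on with
    | zero => simp only [map_zero]
    | add a a' ha ha' => simp only [map_add, ha, ha']
    | tmul c α =>
      rw [show Γ (c ⊗ₜ[R] α) = c ⊗ₜ[B₁] algebraMap P Pg (1 ⊗ₜ α) from (Algebra.TensorProduct.lift_tmul _ _ _ _ _).trans
        ((Algebra.TensorProduct.tmul_mul_tmul _ _ _ _).trans (by rw [mul_one, one_mul]; rfl))]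
      refine (Algebra.TensorProduct.lift_tmul _ _ _ _ _).trans ?_
      rw [show Γ' (c ⊗ₜ[R] α) = _ from Algebra.TensorProduct.lift_tmul _ _ _ _ _]
      congr 1
      refine (IsLocalization.lift_eq _ _).trans ?_
      change Γ' (Algebra.TensorProduct.map u₁ (AlgHom.id R A) (1 ⊗ₜ α)) = αbar α
      rw [Algebra.TensorProduct.map_tmul, map_one]
      refine (Algebra.TensorProduct.lift_tmul _ _ _ _ _).trans ?_
      rw [map_one, one_mul]
      rfl
  have hredker : RingHom.ker red = (RingHom.ker mkJ).map (algebraMap C Q) := by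
    rw [show RingHom.ker mkJ = J from Ideal.mk_ker]
    refine le_antisymm (fun x hx => ?_) (Ideal.map_le_iff_le_comap.2 fun x hx => ?_)
    · rw [← Ideal.Quotient.eq_zero_iff_mem (I := JQ), ← hΘ]
      change Θ (red x) = 0
      rw [show red x = 0 from hx, map_zero]
    · rw [Ideal.mem_comap, RingHom.mem_ker, hredC, show mkJ x = 0 from Ideal.Quotient.eq_zero_iff_mem.2 hx, map_zero]
  let ιQ : H →ₐ[R] Q := (IsScalarTower.toAlgHom R (C ⊗[R] A) Q).comp (Algebra.TensorProduct.includeRight.comp ι₀)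
  have hι : ∀ x, ev (red (ιQ x)) = p₀.hom x := fun x => by
    have e : ρ ((1 : C) ⊗ₜ[R] ι₀ x) = Algebra.TensorProduct.map u₁ (AlgHom.id R A) ((1 : B₁) ⊗ₜ[R] ι₀ x) := by
      simp only [ρ, Algebra.TensorProduct.map_tmul, map_one]
    rw [show ιQ x = algebraMap (C ⊗[R] A) Q ((1 : C) ⊗ₜ[R] ι₀ x) from rfl, hred, e, hΓ]
    refine (hev1 _).trans ?_
    rw [hevP, hΨι]
    rfl
  have hreg : ∀ (i : Fin r) (m : Q₀), jP (f i) * m ∈ Ideal.span ((fun i => jP (f i)) '' {j | j < i}) →
      m ∈ Ideal.span ((fun i => jP (f i)) '' {j | j < i}) := by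
    have e : (algebraMap P Pg).comp (MvPolynomial.aeval (R := B₁) f).toRingHom =
        (MvPolynomial.aeval (R := B₁) fun i => algebraMap P Pg (f i)).toRingHom :=
      congrArg AlgHom.toRingHom (MvPolynomial.algHom_ext (f := (IsScalarTower.toAlgHom B₁ P Pg).comp
        (MvPolynomial.aeval (R := B₁) f)) (g := MvPolynomial.aeval (R := B₁) fun i => algebraMap P Pg (f i)) fun i => by simp)
    rw [e] at hflat
    exact (isWeaklyRegular_ofFn_iff _).1
      (FibreFlat.weaklyRegular_of_flat_aeval (flat_aeval_baseChange _ hflat (C ⧸ J)))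
  obtain ⟨p, hp⟩ := exists_lift mkJ Ideal.Quotient.mk_surjective
    (by rw [show RingHom.ker mkJ = J from Ideal.mk_ker]; exact hJ) ιQ red hredsurj hredC hredker p₀ ev.toRingHom
    ev.commutes hevsurj hι (fun i => jP (f i)) hevker hreg
  -- conclusion
  obtain ⟨fB, hfB, -⟩ := hu C p
  obtain ⟨f₀, -, huniq⟩ := hu (C ⧸ J) p₀
  have hmk : mkJ.comp fB = u₀.comp (IsScalarTower.toAlgHom R B B₂) :=
    (huniq _ ((Fr.map_comp _ _ _).trans (by rw [hfB, hp]))).trans (huniq _ (Fr.map_comp _ _ _)).symm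
  letI : Algebra B C := fB.toRingHom.toAlgebra
  haveI : IsScalarTower R B C := IsScalarTower.of_algebraMap_eq fun x => (fB.commutes x).symm
  let u₀' : B₂ →ₐ[B] C ⧸ J := { u₀ with commutes' := fun x => (AlgHom.congr_fun hmk x).symm }
  obtain ⟨v, hv⟩ := Algebra.FormallySmooth.comp_surjective B B₂ J hJ u₀'
  exact ⟨v.restrictScalars R, AlgHom.ext fun x => AlgHom.congr_fun hv x⟩

end GrothLib.BGAtlas
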