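import Groth.Agent.Lib.BGAtlas.Point
import Groth.Agent.Lib.BGAtlas.Norm
import Groth.Agent.Lib.BGAtlas.Chart
import Groth.Agent.Lib.BGAtlas.Smooth
import Mathlib.RingTheory.RingHom.OpenImmersion
import Mathlib.RingTheory.Etale.Basic

/-!
# A smooth point of the space of structures over a prime of the base
-/

set_option autoImplicit false
set_option linter.style.haveILetI false
set_option backward.isDefEq.respectTransparency false
set_option backward.isDefEq.respectTransparency.types false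

universe u

open TensorProduct

namespace GrothLib.BGAtlas

theorem flat_comp_away {X P : Type u} [CommRing X] [CommRing P] (φ : X →+* P) (g₂ g₃ : P)
    (h : ((algebraMap P (Localization.Away g₂)).comp φ).Flat) :
    ((algebraMap P (Localization.Away (g₂ * g₃))).comp φ).Flat := by
  let ι : Localization.Away g₂ →+* Localization.Away (g₂ * g₃) :=
    IsLocalization.Away.awayToAwayRight (S := Localization.Away g₂) g₂ g₃
  have hι : ∀ z, ι (algebraMap P (Localization.Away g₂) z) = algebraMap P (Localization.Away (g₂ * g₃)) z :=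
    fun z => IsLocalization.Away.awayToAwayRight_eq g₂ g₃ z
  letI : Algebra (Localization.Away g₂) (Localization.Away (g₂ * g₃)) := ι.toAlgebra
  haveI : IsScalarTower P (Localization.Away g₂) (Localization.Away (g₂ * g₃)) :=
    IsScalarTower.of_algebraMap_eq fun z => (hι z).symm
  rw [IsScalarTower.algebraMap_eq P (Localization.Away g₂), RingHom.comp_assoc]
  exact RingHom.Flat.comp h ((Module.flat_iff_of_isLocalization (Localization.Away g₂) (Submonoid.powers g₂) _).mpr
    inferInstance)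

set_option maxHeartbeats 800000 in
/-- Near a slice at a section there is a smooth point of the space of structures. -/
theorem exists_smooth_point {R : Type u} [CommRing R] {H : Type u} [CommRing H] [Algebra R H]
    [Algebra.FinitePresentation R H] [Module.Flat R H] (ε : H →ₐ[R] R) (p : Ideal R) [p.IsPrime]
    {r : ℕ} (a : Fin r → H) (hax : ∀ i, ε (a i) ∈ p) (N : ℕ) (g₀ : H) (hg₀ : ε g₀ ∉ p)
    (hN : ∀ z ∈ (p.comap ε.toRingHom) ^ N, g₀ * z ∈ Ideal.span (Set.range a) ⊔ p.map (algebraMap R H))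
    (g₁ : H) (hg₁ : ε g₁ ∉ p)
    (hflat : (MvPolynomial.aeval (R := R) fun i => algebraMap H (Localization.Away g₁) (a i)).toRingHom.Flat) :
    ∃ n, ∀ (B : Type u) [CommRing B] [Algebra R B] (b : Fr R H B n),
      (∀ (C : Type u) [CommRing C] [Algebra R C] (q : Fr R H C n), ∃! f : B →ₐ[R] C, b.map f = q) →
      ∃ (B₂ : Type u) (_ : CommRing B₂) (_ : Algebra R B₂) (_ : Algebra B B₂), IsScalarTower R B B₂ ∧
        Algebra.IsStandardOpenImmersion B B₂ ∧ Algebra.FormallySmooth R B₂ ∧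
        ∃ P : Ideal B₂, P.IsPrime ∧ P.comap (algebraMap R B₂) = p := by
  classical
  let x : Ideal H := p.comap ε.toRingHom
  let K : Ideal H := Ideal.span (Set.range a) ⊔ p.map (algebraMap R H) ⊔ x ^ (N + 1)
  have hKx : K ≤ x := sup_le (sup_le (Ideal.span_le.2 (Set.range_subset_iff.2 hax))
    (Ideal.map_le_iff_le_comap.2 fun c hc => by
      change ε (algebraMap R H c) ∈ p
      rwa [AlgHom.commutes, Algebra.algebraMap_self_apply])) (Ideal.pow_le_self (Nat.succ_ne_zero N))
  obtain ⟨n, pk, ρ, h, hh, hunit, hρc, hρz, hK0, hK1⟩ :=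
    exists_point ε p K hKx (N := N + 1) le_sup_right (le_sup_right.trans le_sup_left)
  refine ⟨n, fun B _ _ b hu => ?_⟩
  let k := p.ResidueField
  have hkp : ∀ c : R, algebraMap R k c = 0 ↔ c ∈ p := fun c => Ideal.algebraMap_residueField_eq_zero
  obtain ⟨f₀, hf₀, -⟩ := hu k pk
  let w₀ : Ideal B := RingHom.ker f₀.toRingHom
  haveI : w₀.IsPrime := RingHom.ker_isPrime _
  -- the inverted elements
  have hcoord : ∀ i j, Alg.coords (b.hom (h i)) j - (if i = j then 1 else 0) ∈ w₀ := fun i j => by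
    have h2 : f₀ (Alg.coords (b.hom (h i)) j) = Alg.coords (pk.hom (h i)) j :=
      (Fr.map_coords b f₀ (h i) j).symm.trans (congrArg (fun z : Fr R H k n => Alg.coords (z.hom (h i)) j) hf₀)
    rw [hh, Alg.coords_basis, Pi.single_apply] at h2
    rw [RingHom.mem_ker]
    change f₀ (_ - _) = 0
    rw [map_sub, h2]
    by_cases e : i = j
    · rw [if_pos e, if_pos e.symm, map_one, sub_self]
    · rw [if_neg e, if_neg (Ne.symm e), map_zero, sub_self]
  obtain ⟨D₁, hD₁, hD₁s⟩ := exists_smul_mem_span (fun i => b.hom (h i)) hcoord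
  have hug₁ : IsUnit ((b.map f₀).hom g₁) := by
    rw [hf₀]
    exact hunit _ (by rw [hρz]; exact fun e => hg₁ ((hkp _).1 e))
  have hDg : f₀ (Alg.det (b.hom g₁)) ≠ 0 := by
    have := Alg.det_map f₀.toRingHom (b.hom g₁)
    exact fun e => (Alg.isUnit_det hug₁).ne_zero ((this.symm.trans e) : _)
  let D := D₁ * Alg.det (b.hom g₁)
  have hD : IsUnit (f₀ D) := isUnit_iff_ne_zero.2 (by
    rw [map_mul]
    exact mul_ne_zero hD₁ hDg)
  let B₁ := Localization.Away D
  let to₁ : B →ₐ[R] B₁ := IsScalarTower.toAlgHom R B B₁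
  let φ₁ : B₁ →ₐ[R] k := IsLocalization.liftAlgHom (M := Submonoid.powers D) (f := f₀) (by
    rintro ⟨_, i, rfl⟩
    rw [map_pow]
    exact hD.pow i)
  have hφ₁z : ∀ z, φ₁ (algebraMap B B₁ z) = f₀ z := fun z => by
    simp only [φ₁, IsLocalization.coe_liftAlgHom, IsLocalization.lift_eq]
    rfl
  have hφ₁ : φ₁.comp to₁ = f₀ := AlgHom.ext hφ₁z
  obtain rfl : pk = (b.map to₁).map φ₁ := by rw [← Fr.map_comp, hφ₁, hf₀]
  let b₁ := b.map to₁
  let A := Localization.Away g₁
  haveI : Algebra.FinitePresentation R A := Algebra.FinitePresentation.trans R H A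
  haveI : Module.Flat R A := Module.Flat.trans R H A
  have hDu : IsUnit (to₁ D) := IsLocalization.Away.algebraMap_isUnit D
  have hg₁u : ∀ y : Submonoid.powers g₁, IsUnit (b₁.hom y) := by
    rintro ⟨_, i, rfl⟩
    rw [map_pow]
    refine IsUnit.pow i (Alg.isUnit_of_isUnit_det ?_)
    change IsUnit (Alg.det (Alg.map b.str to₁.toRingHom (b.hom g₁)))
    rw [← Alg.det_map]
    rw [map_mul] at hDu
    exact isUnit_of_mul_isUnit_right hDu
  let ψA : A →ₐ[R] Alg b₁.str := IsLocalization.liftAlgHom hg₁u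
  have hψA : ∀ z, ψA (algebraMap H A z) = b₁.hom z := fun z => IsLocalization.lift_eq _ z
  let P := B₁ ⊗[R] A
  let Ψ : P →ₐ[B₁] Alg b₁.str := Algebra.TensorProduct.lift (Algebra.ofId B₁ _) ψA fun _ _ => Commute.all _ _
  let jH : H →ₐ[R] P := Algebra.TensorProduct.includeRight.comp (IsScalarTower.toAlgHom R H A)
  have hΨH : ∀ z, Ψ (jH z) = b₁.hom z := fun z => by
    refine (Algebra.TensorProduct.lift_tmul _ _ _ _ _).trans ?_
    rw [map_one, one_mul]
    exact hψA z
  have hΨs : Function.Surjective Ψ := fun y => by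
    suffices h1 : ∀ j, ∃ z, Ψ z = Alg.basis b₁.str j by
      choose z hz using h1
      refine ⟨∑ j, Alg.coords y j • z j, ?_⟩
      rw [map_sum]
      simp only [map_smul, hz]
      exact Alg.sum_coords y
    intro j
    have key : ∀ z ∈ Submodule.span B (Set.range fun i => b.hom (h i)),
        Alg.map b.str to₁.toRingHom z ∈ LinearMap.range Ψ.toLinearMap := fun z hz => by
      induction hz using Submodule.span_induction with
      | mem z hz =>
        obtain ⟨i, rfl⟩ := hz
        exact ⟨jH (h i), hΨH (h i)⟩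
      | zero => rw [map_zero]; exact zero_mem _
      | add z z' _ _ h1 h2 => rw [map_add]; exact add_mem h1 h2
      | smul c z _ h1 => rw [Alg.map_smul']; exact Submodule.smul_mem _ _ h1
    obtain ⟨z, hz⟩ := key _ (hD₁s (Alg.basis b.str j))
    rw [map_mul] at hDu
    obtain ⟨v, hv⟩ := isUnit_of_mul_isUnit_left hDu
    refine ⟨(↑v⁻¹ : B₁) • z, ?_⟩
    rw [map_smul]
    change (↑v⁻¹ : B₁) • Ψ.toLinearMap z = _
    rw [hz, Alg.map_smul', Alg.map_basis, smul_smul]
    change ((↑v⁻¹ : B₁) * to₁ D₁) • Alg.basis b₁.str j = _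
    rw [← hv, Units.inv_mul, one_smul]
  -- the point
  let mk := Alg.map b₁.str φ₁.toRingHom
  let w : Ideal B₁ := RingHom.ker φ₁.toRingHom
  haveI : w.IsPrime := RingHom.ker_isPrime _
  let θ : P →+* k := ρ.comp (mk.comp Ψ.toRingHom)
  have hθc : ∀ c, θ (algebraMap B₁ P c) = φ₁ c := fun c => by
    change ρ (mk (Ψ (algebraMap B₁ P c))) = _
    rw [Ψ.commutes, Alg.map_algebraMap]
    exact hρc _
  have hθH : ∀ z, θ (jH z) = algebraMap R k (ε z) := fun z => by
    change ρ (mk (Ψ (jH z))) = _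
    rw [hΨH]
    exact hρz z
  let q : Ideal P := RingHom.ker θ
  haveI : q.IsPrime := RingHom.ker_isPrime _
  have hqw : q.comap (algebraMap B₁ P) = w := Ideal.ext fun c => by
    rw [Ideal.mem_comap, RingHom.mem_ker, hθc]
    rfl
  let W : Ideal P := w.map (algebraMap B₁ P)
  have hW0 : ∀ z ∈ W, mk (Ψ z) = 0 := fun z hz => by
    have hle : W ≤ RingHom.ker (mk.comp Ψ.toRingHom) := Ideal.map_le_iff_le_comap.2 fun c hc => by
      change mk (Ψ (algebraMap B₁ P c)) = 0
      rw [Ψ.commutes, Alg.map_algebraMap, show φ₁.toRingHom c = 0 from hc, map_zero]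
    exact hle hz
  -- the sequence
  choose σ hσ using fun j => hΨs (Alg.basis b₁.str j)
  let a' : Fin r → A := fun i => algebraMap H A (a i)
  let f : Fin r → P := fun i => (1 : B₁) ⊗ₜ[R] a' i - ∑ j, Alg.coords (b₁.hom (a i)) j • σ j
  have hΨf : ∀ i, Ψ (f i) = 0 := fun i => by
    rw [map_sub, map_sum]
    simp only [map_smul, hσ]
    rw [Alg.sum_coords, sub_eq_zero]
    exact hΨH (a i)
  have hsum : ∀ i, ∑ j, Alg.coords (b₁.hom (a i)) j • σ j ∈ W := fun i => sum_mem fun j _ => by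
    rw [show Alg.coords (b₁.hom (a i)) j • σ j = algebraMap B₁ P (Alg.coords (b₁.hom (a i)) j) * σ j from
      Algebra.smul_def (R := B₁) (A := P) _ _]
    refine Ideal.mul_mem_right _ _ (Ideal.mem_map_of_mem _ ?_)
    have h1 := hK0 (a i) (Ideal.mem_sup_left (Ideal.mem_sup_left (Ideal.subset_span ⟨i, rfl⟩)))
    exact congrArg (fun z => Alg.coords z j) h1
  have hf : ∀ i, f i - (1 : B₁) ⊗ₜ[R] a' i ∈ W := fun i => by
    rw [sub_sub_cancel_left]
    exact neg_mem (hsum i)
  have hfq : ∀ i, f i ∈ q := fun i => by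
    change ρ (mk (Ψ (f i))) = 0
    rw [hΨf, map_zero, map_zero]
  obtain ⟨g₂, hg₂, hg₂flat⟩ := exists_flat_perturbed a' hflat w q hqw f hf hfq
  -- the kernel
  have hsame : Ideal.span (Set.range fun i => (1 : B₁) ⊗ₜ[R] a' i) ⊔ W ≤ Ideal.span (Set.range f) ⊔ W := by
    refine sup_le (Ideal.span_le.2 ?_) le_sup_right
    rintro _ ⟨i, rfl⟩
    change (1 : B₁) ⊗ₜ[R] a' i ∈ _
    rw [← sub_sub_cancel (f i) ((1 : B₁) ⊗ₜ[R] a' i)]
    exact sub_mem (Ideal.mem_sup_left (Ideal.subset_span ⟨i, rfl⟩)) (Ideal.mem_sup_right (hf i))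
  have happr : ∀ z : P, ∃ (s z₀ : H), ε s ∉ p ∧ jH s * z - jH z₀ ∈ W := fun z => by
    induction z using TensorProduct.induction_on with
    | zero => exact ⟨1, 0, by rw [map_one]; exact fun e => ‹p.IsPrime›.ne_top ((Ideal.eq_top_iff_one p).2 e),
        by rw [mul_zero, map_zero, sub_zero]; exact zero_mem _⟩
    | add z z' hz hz' =>
      obtain ⟨s, z₀, hs, hz⟩ := hz
      obtain ⟨s', z₀', hs', hz'⟩ := hz'
      refine ⟨s * s', s' * z₀ + s * z₀', by rw [map_mul]; exact ‹p.IsPrime›.mul_notMem hs hs', ?_⟩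
      have : jH (s * s') * (z + z') - jH (s' * z₀ + s * z₀') =
          jH s' * (jH s * z - jH z₀) + jH s * (jH s' * z' - jH z₀') := by simp only [map_add, map_mul]; ring
      rw [this]
      exact add_mem (W.mul_mem_left _ hz) (W.mul_mem_left _ hz')
    | tmul c α =>
      obtain ⟨⟨z', ⟨_, i, rfl⟩⟩, hz'⟩ := IsLocalization.surj (Submonoid.powers g₁) α
      obtain ⟨⟨num, den⟩, hnd⟩ := IsLocalization.surj (nonZeroDivisors (R ⧸ p)) (φ₁ c)
      obtain ⟨r₀, rfl⟩ := Ideal.Quotient.mk_surjective num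
      obtain ⟨u, hu'⟩ := Ideal.Quotient.mk_surjective (den : R ⧸ p)
      have hup : u ∉ p := fun e => nonZeroDivisors.ne_zero den.2 (hu' ▸ Ideal.Quotient.eq_zero_iff_mem.2 e)
      refine ⟨algebraMap R H u * g₁ ^ i, algebraMap R H r₀ * z', ?_, ?_⟩
      · rw [map_mul, map_pow, AlgHom.commutes, Algebra.algebraMap_self_apply]
        exact ‹p.IsPrime›.mul_notMem hup fun e => hg₁ (‹p.IsPrime›.mem_of_pow_mem i e)
      · have hw : algebraMap R B₁ u * c - algebraMap R B₁ r₀ ∈ w := by
          change φ₁ _ = 0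
          rw [map_sub, map_mul, AlgHom.commutes, AlgHom.commutes, sub_eq_zero, mul_comm]
          rw [← hu'] at hnd
          exact hnd
        have e : jH (algebraMap R H u * g₁ ^ i) * (c ⊗ₜ[R] α) - jH (algebraMap R H r₀ * z') =
            algebraMap B₁ P (algebraMap R B₁ u * c - algebraMap R B₁ r₀) * jH z' := by
          have e1 : jH (g₁ ^ i) * (c ⊗ₜ[R] α) = algebraMap B₁ P c * jH z' := by
            change ((1 : B₁) ⊗ₜ[R] algebraMap H A (g₁ ^ i)) * (c ⊗ₜ[R] α) = (c ⊗ₜ[R] (1 : A)) * (1 ⊗ₜ[R] algebraMap H A z')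
            rw [Algebra.TensorProduct.tmul_mul_tmul, Algebra.TensorProduct.tmul_mul_tmul, one_mul, one_mul, mul_one,
              mul_comm _ α, hz']
          rw [map_mul, map_mul, AlgHom.commutes, AlgHom.commutes, mul_assoc, e1, map_sub, map_mul,
            ← IsScalarTower.algebraMap_apply, ← IsScalarTower.algebraMap_apply]
          ring
        rw [e]
        exact Ideal.mul_mem_right _ _ (Ideal.mem_map_of_mem _ hw)
  have hker : ∀ z, Ψ z = 0 → ∃ s ∉ q, s * z ∈ Ideal.span (Set.range f) ⊔ W := fun z hz => by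
    obtain ⟨s, z₀, hs, hsz⟩ := happr z
    have h0 : mk (b₁.hom z₀) = 0 := by
      have := hW0 _ hsz
      rwa [map_sub, map_mul, hz, mul_zero, zero_sub, map_neg, neg_eq_zero, hΨH] at this
    obtain ⟨u, hup, huz⟩ := hK1 z₀ h0
    have hmem : g₀ * (algebraMap R H u * z₀) ∈ Ideal.span (Set.range a) ⊔ p.map (algebraMap R H) := by
      obtain ⟨y, hy, t, ht, e⟩ := Submodule.mem_sup.1 huz
      rw [← e, mul_add]
      exact add_mem (Ideal.mul_mem_left _ _ hy) (hN t (Ideal.pow_le_pow_right (Nat.le_succ N) ht))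
    have hmem' : jH (g₀ * (algebraMap R H u * z₀)) ∈ Ideal.span (Set.range f) ⊔ W := by
      refine hsame ?_
      have h1 := Ideal.mem_map_of_mem jH hmem
      rw [Ideal.map_sup, Ideal.map_span, ← Set.range_comp] at h1
      refine (sup_le_sup le_rfl ?_ : _ ≤ Ideal.span (Set.range fun i => (1 : B₁) ⊗ₜ[R] a' i) ⊔ W) h1
      rw [Ideal.map_le_iff_le_comap, Ideal.map_le_iff_le_comap]
      intro c hc
      rw [Ideal.mem_comap, Ideal.mem_comap, AlgHom.commutes, IsScalarTower.algebraMap_apply R B₁ P]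
      refine Ideal.mem_map_of_mem _ ?_
      change φ₁ (algebraMap R B₁ c) = 0
      rw [AlgHom.commutes]
      exact (hkp c).2 hc
    refine ⟨jH (g₀ * algebraMap R H u * s), fun e => ?_, ?_⟩
    · rw [RingHom.mem_ker, hθH, hkp, map_mul, map_mul, AlgHom.commutes, Algebra.algebraMap_self_apply] at e
      exact ‹p.IsPrime›.mul_notMem (‹p.IsPrime›.mul_notMem hg₀ hup) hs e
    · have e : jH (g₀ * algebraMap R H u * s) * z =
          jH (g₀ * (algebraMap R H u * z₀)) + jH (g₀ * algebraMap R H u) * (jH s * z - jH z₀) := by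
        simp only [map_mul]; ring
      rw [e]
      exact add_mem hmem' (Ideal.mem_sup_right (W.mul_mem_left _ hsz))
  obtain ⟨g₃, hg₃, hg₃K⟩ := exists_ker_le Ψ hΨs w q (Ideal.map_le_iff_le_comap.2 hqw.ge) f hΨf hker
  let g := g₂ * g₃
  have hgq : g ∉ q := ‹q.IsPrime›.mul_notMem hg₂ hg₃
  let D₃ := Alg.det (Ψ g)
  have hD₃ : IsUnit (φ₁ D₃) := by
    have h1 : IsUnit (mk (Ψ g)) := hunit _ fun e => hgq e
    have := Alg.isUnit_det h1
    rwa [← Alg.det_map] at this
  let B₂ := Localization.Away D₃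
  haveI : Algebra.FormallyEtale B B₁ := Algebra.FormallyEtale.of_isLocalization (Submonoid.powers D)
  haveI : Algebra.FormallyEtale B₁ B₂ := Algebra.FormallyEtale.of_isLocalization (Submonoid.powers D₃)
  haveI : Algebra.FormallyEtale B B₂ := Algebra.FormallyEtale.comp B B₁ B₂
  let mk₂ := Alg.map b₁.str (algebraMap B₁ B₂)
  let Ψ₂ : P →ₐ[B₁] Alg (b.map (IsScalarTower.toAlgHom R B B₂)).str :=
    { mk₂.comp Ψ.toRingHom with
      commutes' := fun c => by
        change mk₂ (Ψ (algebraMap B₁ P c)) = _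
        rw [Ψ.commutes, Alg.map_algebraMap, Alg.algebraMap_eq, Alg.algebraMap_eq, algebraMap_smul]
        }
  let φ₂ : B₂ →ₐ[R] k := IsLocalization.liftAlgHom (M := Submonoid.powers D₃) (f := φ₁) (by
    rintro ⟨_, i, rfl⟩
    rw [map_pow]
    exact hD₃.pow i)
  haveI : Algebra.IsStandardOpenImmersion B B₂ := Algebra.IsStandardOpenImmersion.trans B B₁ B₂
  refine ⟨B₂, inferInstance, inferInstance, inferInstance, inferInstance, inferInstance, ?_,
    RingHom.ker φ₂.toRingHom, RingHom.ker_isPrime _, Ideal.ext fun c => ?_⟩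
  · refine formallySmooth_of_chart (IsScalarTower.toAlgHom R H A) b hu Ψ₂ (fun z => ?_) g ?_ σ (fun j => ?_) f
      (fun i => ?_) (fun z => ?_) ?_
    · change mk₂ (Ψ (jH z)) = _
      rw [hΨH]
      rfl
    · refine Alg.isUnit_of_isUnit_det ?_
      change IsUnit (Alg.det (mk₂ (Ψ g)))
      rw [← Alg.det_map]
      exact IsLocalization.Away.algebraMap_isUnit D₃
    · change mk₂ (Ψ (σ j)) = _
      rw [hσ, Alg.map_basis]
      rfl
    · change mk₂ (Ψ (f i)) = 0
      rw [hΨf, map_zero]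
    · refine ⟨fun j => Alg.coords (Ψ z) j, ?_⟩
      rw [mul_assoc]
      refine Ideal.mul_mem_left _ _ (hg₃K _ ?_)
      rw [map_sub, map_sum]
      simp only [map_smul, hσ]
      rw [Alg.sum_coords, sub_self]
    · exact flat_comp_away _ g₂ g₃ hg₂flat
  · rw [Ideal.mem_comap, RingHom.mem_ker]
    change φ₂ (algebraMap R B₂ c) = 0 ↔ _
    rw [AlgHom.commutes]
    exact hkp c

end GrothLib.BGAtlas
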