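import Groth.Agent.Lib.BGAtlas.StrAlg
import Mathlib.RingTheory.FinitePresentation

/-!
# The universal algebra structure with a map from a finitely presented algebra
-/

set_option autoImplicit false
set_option backward.isDefEq.respectTransparency false
set_option backward.isDefEq.respectTransparency.types false

universe u

namespace GrothLib.BGAtlas

variable {R : Type u} [CommRing R] {H : Type u} [CommRing H] [Algebra R H] {n : ℕ}
variable {C D E : Type u} [CommRing C] [Algebra R C] [CommRing D] [Algebra R D] [CommRing E] [Algebra R E]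

/-- An algebra structure on `C^{n+1}` with a map from `H`. -/
structure Fr (R H : Type u) [CommRing R] [CommRing H] [Algebra R H] (C : Type u) [CommRing C] [Algebra R C] (n : ℕ) where
  /-- the constants -/
  str : Str C n
  /-- the map -/
  hom : H →ₐ[R] Alg str

/-- Transport of the algebras as an `R`-algebra map. -/
noncomputable def Alg.mapₐ (S : Str C n) (f : C →ₐ[R] D) : Alg S →ₐ[R] Alg (S.map f.toRingHom) where
  __ := Alg.map S f.toRingHom
  commutes' r := by
    change Alg.map S f.toRingHom (algebraMap R (Alg S) r) = _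
    rw [Alg.algebraMap_eq, Alg.algebraMap_eq, ← IsScalarTower.algebraMap_smul C r, Alg.map_smul', map_one,
      AlgHom.toRingHom_eq_coe, RingHom.coe_coe, AlgHom.commutes, IsScalarTower.algebraMap_smul]

@[simp] theorem Alg.mapₐ_apply (S : Str C n) (f : C →ₐ[R] D) (x : Alg S) :
    Alg.mapₐ S f x = Alg.map S f.toRingHom x := rfl

/-- Transport. -/
noncomputable def Fr.map (p : Fr R H C n) (f : C →ₐ[R] D) : Fr R H D n :=
  ⟨p.str.map f.toRingHom, (Alg.mapₐ p.str f).comp p.hom⟩

theorem Fr.ext' {p q : Fr R H C n} (h1 : ∀ i j k, p.str.c i j k = q.str.c i j k)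
    (h2 : ∀ x i, Alg.coords (p.hom x) i = Alg.coords (q.hom x) i) : p = q := by
  obtain ⟨S, φ⟩ := p
  obtain ⟨T, ψ⟩ := q
  obtain rfl : S = T := Str.ext (funext fun i => funext fun j => funext fun k => h1 i j k)
  rw [show φ = ψ from AlgHom.ext fun x => Alg.ext (h2 x)]

theorem Fr.map_c (p : Fr R H C n) (f : C →ₐ[R] D) (i j k : Fin (n + 1)) :
    (p.map f).str.c i j k = f (p.str.c i j k) := rfl

theorem Fr.map_coords (p : Fr R H C n) (f : C →ₐ[R] D) (x : H) (i : Fin (n + 1)) :
    Alg.coords ((p.map f).hom x) i = f (Alg.coords (p.hom x) i) := rfl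

theorem Fr.map_comp (p : Fr R H C n) (f : C →ₐ[R] D) (g : D →ₐ[R] E) :
    p.map (g.comp f) = (p.map f).map g := Fr.ext' (fun _ _ _ => rfl) fun _ _ => rfl

theorem Fr.map_id (p : Fr R H C n) : p.map (AlgHom.id R C) = p := Fr.ext' (fun _ _ _ => rfl) fun _ _ => rfl

theorem Fr.ext_mvPolynomial {m : ℕ} {p q : Fr R (MvPolynomial (Fin m) R) C n}
    (h1 : ∀ i j k, p.str.c i j k = q.str.c i j k)
    (h2 : ∀ s i, Alg.coords (p.hom (MvPolynomial.X s)) i = Alg.coords (q.hom (MvPolynomial.X s)) i) : p = q := by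
  obtain ⟨S, φ⟩ := p
  obtain ⟨T, ψ⟩ := q
  obtain rfl : S = T := Str.ext (funext fun i => funext fun j => funext fun k => h1 i j k)
  rw [show φ = ψ from MvPolynomial.algHom_ext fun s => Alg.ext (h2 s)]

variable (R n) in
/-- The universal constants. -/
theorem exists_str_univ :
    ∃ (B : Type u) (_ : CommRing B) (_ : Algebra R B) (S₀ : Str B n), Algebra.FinitePresentation R B ∧
      ∀ (C : Type u) [CommRing C] [Algebra R C] (S : Str C n), ∃! f : B →ₐ[R] C, S₀.map f.toRingHom = S := by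
  classical
  let T := Fin (n + 1) × Fin (n + 1) × Fin (n + 1)
  let X₀ : Fin (n + 1) → Fin (n + 1) → Fin (n + 1) → MvPolynomial T R := fun i j k => MvPolynomial.X (i, j, k)
  let rels : Set (MvPolynomial T R) := Set.range (fun t : T => X₀ t.1 t.2.1 t.2.2 - X₀ t.2.1 t.1 t.2.2) ∪
    Set.range (fun t : T × Fin (n + 1) => (∑ k, X₀ t.1.1 t.1.2.1 k * X₀ k t.1.2.2 t.2) -
      ∑ k, X₀ t.1.2.1 t.1.2.2 k * X₀ t.1.1 k t.2) ∪
    Set.range (fun t : Fin (n + 1) × Fin (n + 1) => X₀ 0 t.1 t.2 - if t.1 = t.2 then 1 else 0)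
  have hrels : rels.Finite := ((Set.finite_range _).union (Set.finite_range _)).union (Set.finite_range _)
  let mk₀ := Ideal.Quotient.mkₐ R (Ideal.span rels)
  have z : ∀ x ∈ rels, mk₀ x = 0 := fun x hx => Ideal.Quotient.eq_zero_iff_mem.2 (Ideal.subset_span hx)
  refine ⟨MvPolynomial T R ⧸ Ideal.span rels, inferInstance, inferInstance,
    { c := fun i j k => mk₀ (X₀ i j k)
      comm := fun i j k => by
        rw [← sub_eq_zero, ← map_sub]
        exact z _ (Or.inl (Or.inl ⟨(i, j, k), rfl⟩))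
      assoc := fun i j l p => by
        simp only [← map_mul, ← map_sum]
        rw [← sub_eq_zero, ← map_sub]
        exact z _ (Or.inl (Or.inr ⟨((i, j, l), p), rfl⟩))
      one := fun j k => by
        rw [← sub_eq_zero]
        refine Eq.trans ?_ (z _ (Or.inr ⟨(j, k), rfl⟩))
        rw [map_sub]
        congr 1
        split <;> simp },
    Algebra.FinitePresentation.quotient ⟨hrels.toFinset, by rw [Set.Finite.coe_toFinset]⟩, fun C _ _ S => ?_⟩
  let g₀ : MvPolynomial T R →ₐ[R] C := MvPolynomial.aeval fun t => S.c t.1 t.2.1 t.2.2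
  have hg₀ : ∀ i j k, g₀ (X₀ i j k) = S.c i j k := fun i j k => MvPolynomial.aeval_X _ _
  have hI₀ : ∀ x ∈ Ideal.span rels, g₀ x = 0 := by
    intro x hx
    have hle : Ideal.span rels ≤ RingHom.ker g₀ := by
      rw [Ideal.span_le]
      rintro _ ((⟨t, rfl⟩ | ⟨t, rfl⟩) | ⟨t, rfl⟩) <;> rw [SetLike.mem_coe, RingHom.mem_ker, map_sub]
      · rw [hg₀, hg₀, S.comm, sub_self]
      · simp only [map_sum, map_mul, hg₀, S.assoc, sub_self]
      · rw [hg₀, S.one]
        split <;> simp
    exact hle hx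
  refine ⟨Ideal.Quotient.liftₐ _ g₀ hI₀, Str.ext (funext fun i => funext fun j => funext fun k => hg₀ i j k),
    fun f hf => Ideal.Quotient.algHom_ext R (MvPolynomial.algHom_ext fun t => ?_)⟩
  exact (congrArg (fun z : Str C n => z.c t.1 t.2.1 t.2.2) hf).trans (hg₀ t.1 t.2.1 t.2.2).symm

variable (R H n) in
/-- The universal structure exists over a finitely presented algebra. -/
theorem exists_univ [Algebra.FinitePresentation R H] :
    ∃ (B : Type u) (_ : CommRing B) (_ : Algebra R B) (b : Fr R H B n), Algebra.FinitePresentation R B ∧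
      ∀ (C : Type u) [CommRing C] [Algebra R C] (p : Fr R H C n), ∃! f : B →ₐ[R] C, b.map f = p := by
  classical
  obtain ⟨B₀, _, _, S₀, hB₀, hu⟩ := exists_str_univ R n
  obtain ⟨m, π, hπ, G, hG⟩ := (inferInstance : Algebra.FinitePresentation R H).out
  let i₁ : B₀ →ₐ[R] MvPolynomial (Fin m × Fin (n + 1)) B₀ :=
    IsScalarTower.toAlgHom R B₀ (MvPolynomial (Fin m × Fin (n + 1)) B₀)
  let S₁ := S₀.map i₁.toRingHom
  let θ : MvPolynomial (Fin m) R →ₐ[R] Alg S₁ :=
    MvPolynomial.aeval fun s => Alg.mk fun i => MvPolynomial.X (s, i)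
  let rels₁ : Set (MvPolynomial (Fin m × Fin (n + 1)) B₀) :=
    Set.range fun t : {g // g ∈ G} × Fin (n + 1) => Alg.coords (θ t.1.1) t.2
  let q := Ideal.Quotient.mkₐ R (Ideal.span rels₁)
  let Ψ₀ : MvPolynomial (Fin m) R →ₐ[R] Alg (S₁.map q.toRingHom) := (Alg.mapₐ S₁ q).comp θ
  have hker : ∀ x ∈ RingHom.ker π.toRingHom, Ψ₀ x = 0 := by
    intro x hx
    have hle : Ideal.span (G : Set (MvPolynomial (Fin m) R)) ≤ RingHom.ker Ψ₀ := by
      rw [Ideal.span_le]
      intro g hg
      exact Alg.ext fun i => (Ideal.Quotient.eq_zero_iff_mem.2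
        (Ideal.subset_span ⟨(⟨g, hg⟩, i), rfl⟩) : q (Alg.coords (θ g) i) = 0)
    exact hle (hG.symm ▸ hx)
  let ψ : H →ₐ[R] Alg (S₁.map q.toRingHom) := AlgHom.liftOfSurjective π hπ Ψ₀ hker
  have hψ : ∀ x, ψ (π x) = Ψ₀ x := fun x =>
    AlgHom.congr_fun (AlgHom.liftOfSurjective_comp π hπ Ψ₀ hker) x
  haveI : Algebra.FinitePresentation R (MvPolynomial (Fin m × Fin (n + 1)) B₀) :=
    Algebra.FinitePresentation.trans R B₀ _
  refine ⟨MvPolynomial (Fin m × Fin (n + 1)) B₀ ⧸ Ideal.span rels₁, inferInstance, inferInstance,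
    ⟨S₁.map q.toRingHom, ψ⟩,
    Algebra.FinitePresentation.quotient ⟨(Set.finite_range _).toFinset, by rw [Set.Finite.coe_toFinset]⟩,
    fun C _ _ p => ?_⟩
  obtain ⟨f₀, hf₀, huf⟩ := hu C p.str
  let g₁ : MvPolynomial (Fin m × Fin (n + 1)) B₀ →ₐ[R] C :=
    { MvPolynomial.eval₂Hom f₀.toRingHom fun t => Alg.coords (p.hom (π (MvPolynomial.X t.1))) t.2 with
      commutes' := fun r => by
        change MvPolynomial.eval₂Hom _ _ (algebraMap R _ r) = _
        rw [IsScalarTower.algebraMap_apply R B₀ (MvPolynomial (Fin m × Fin (n + 1)) B₀), MvPolynomial.algebraMap_eq,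
          MvPolynomial.eval₂Hom_C]
        exact f₀.commutes r }
  have hi₁ : ∀ b : B₀, g₁ (i₁ b) = f₀ b := fun b => MvPolynomial.eval₂Hom_C _ _ _
  have hX : ∀ s i, g₁ (MvPolynomial.X (s, i)) = Alg.coords (p.hom (π (MvPolynomial.X s))) i :=
    fun s i => MvPolynomial.eval₂Hom_X' _ _ _
  have hS : ∀ i j k, g₁ (S₁.c i j k) = p.str.c i j k := fun i j k =>
    (hi₁ _).trans (congrArg (fun z : Str C n => z.c i j k) hf₀)
  let p₁ : Fr R (MvPolynomial (Fin m) R) (MvPolynomial (Fin m × Fin (n + 1)) B₀) n := ⟨S₁, θ⟩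
  have hθ : ∀ x i, g₁ (Alg.coords (θ x) i) = Alg.coords (p.hom (π x)) i := by
    have key : p₁.map g₁ = ⟨p.str, p.hom.comp π⟩ := Fr.ext_mvPolynomial hS fun s i => by
      rw [Fr.map_coords]
      change g₁ (Alg.coords (θ (MvPolynomial.X s)) i) = _
      rw [show θ (MvPolynomial.X s) = Alg.mk fun i => MvPolynomial.X (s, i) from MvPolynomial.aeval_X _ _,
        Alg.coords_mk]
      exact hX s i
    intro x i
    exact (Fr.map_coords p₁ g₁ x i).symm.trans
      (congrArg (fun z : Fr R (MvPolynomial (Fin m) R) C n => Alg.coords (z.hom x) i) key)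
  have hI₁ : ∀ x ∈ Ideal.span rels₁, g₁ x = 0 := by
    intro x hx
    have hle : Ideal.span rels₁ ≤ RingHom.ker g₁ := by
      rw [Ideal.span_le]
      rintro _ ⟨⟨⟨g, hg⟩, i⟩, rfl⟩
      rw [SetLike.mem_coe, RingHom.mem_ker]
      refine (hθ g i).trans ?_
      have h0 : π g = 0 := (RingHom.mem_ker).1 (hG ▸ Ideal.subset_span hg)
      rw [h0, map_zero, map_zero]
      rfl
    exact hle hx
  refine ⟨Ideal.Quotient.liftₐ _ g₁ hI₁, Fr.ext' hS fun x i => ?_,
    fun f' hf' => Ideal.Quotient.algHom_ext R (AlgHom.ext fun x => ?_)⟩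
  · obtain ⟨x, rfl⟩ := hπ x
    rw [Fr.map_coords]
    change Ideal.Quotient.liftₐ _ g₁ hI₁ (Alg.coords (ψ (π x)) i) = _
    rw [hψ]
    exact hθ x i
  · induction x using MvPolynomial.induction_on with
    | C b =>
      change ((f'.comp q).comp i₁) b = g₁ (i₁ b)
      rw [hi₁, huf ((f'.comp q).comp i₁) (congrArg Fr.str hf')]
    | add a b ha hb => simp only [map_add, ha, hb]
    | mul_X a s ha =>
      rw [map_mul, map_mul, ha]
      congr 1
      change f' (q (MvPolynomial.X s)) = g₁ (MvPolynomial.X s)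
      rw [hX s.1 s.2, ← congrArg (fun z : Fr R H C n => Alg.coords (z.hom (π (MvPolynomial.X s.1))) s.2) hf']
      change _ = f' (Alg.coords (ψ (π _)) _)
      rw [hψ]
      change _ = f' (q (Alg.coords (θ (MvPolynomial.X s.1)) s.2))
      rw [show θ (MvPolynomial.X s.1) = Alg.mk fun i => MvPolynomial.X (s.1, i) from MvPolynomial.aeval_X _ _,
        Alg.coords_mk]

end GrothLib.BGAtlas
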