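import Groth.Agent.Lib.BGAtlas.Param
import Mathlib.RingTheory.LocalRing.ResidueField.Ideal
import Mathlib.RingTheory.IntegralClosure.IsIntegralClosure.Basic
import Mathlib.RingTheory.TensorProduct.Finite
import Mathlib.LinearAlgebra.Dimension.Basic
import Mathlib.LinearAlgebra.Basis.VectorSpace
import Mathlib.RingTheory.TensorProduct.Quotient
import Mathlib.RingTheory.Localization.BaseChange
import Mathlib.Algebra.Module.Torsion.Basic

/-!
# The field-valued point given by a thickened section in a fibre
-/

set_option autoImplicit false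
set_option linter.style.haveILetI false
set_option backward.isDefEq.respectTransparency false
set_option backward.isDefEq.respectTransparency.types false

universe u

open TensorProduct

namespace GrothLib.BGAtlas

variable {R : Type u} [CommRing R] {H : Type u} [CommRing H] [Algebra R H] [Algebra.FiniteType R H]

/-- A finite algebra structure over the residue field cut out near a section. -/
theorem exists_point (ε : H →ₐ[R] R) (p : Ideal R) [p.IsPrime] (K : Ideal H) {N : ℕ}
    (hx : K ≤ p.comap ε.toRingHom) (hN : (p.comap ε.toRingHom) ^ N ≤ K) (hpK : p.map (algebraMap R H) ≤ K) :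
    ∃ (n : ℕ) (pk : Fr R H p.ResidueField n) (ρ : Alg pk.str →+* p.ResidueField) (h : Fin (n + 1) → H),
      (∀ i, pk.hom (h i) = Alg.basis pk.str i) ∧ (∀ y, ρ y ≠ 0 → IsUnit y) ∧
      (∀ c : p.ResidueField, ρ (algebraMap _ _ c) = c) ∧
      (∀ z : H, ρ (pk.hom z) = algebraMap R p.ResidueField (ε z)) ∧
      (∀ z ∈ K, pk.hom z = 0) ∧ (∀ z, pk.hom z = 0 → ∃ u ∉ p, algebraMap R H u * z ∈ K) := by
  classical
  let k := p.ResidueField
  let x : Ideal H := p.comap ε.toRingHom
  let M := H ⧸ K
  have hM : Algebra.IsIntegral R M := ⟨fun m => by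
    obtain ⟨z, rfl⟩ := Ideal.Quotient.mk_surjective m
    have hzx : z - algebraMap R H (ε z) ∈ x := by
      change ε (z - algebraMap R H (ε z)) ∈ p
      simp
    refine ⟨(Polynomial.X - Polynomial.C (ε z)) ^ N, (Polynomial.monic_X_sub_C _).pow N, ?_⟩
    rw [Polynomial.eval₂_pow, Polynomial.eval₂_sub, Polynomial.eval₂_X, Polynomial.eval₂_C]
    exact (map_pow (Ideal.Quotient.mk K) _ N).symm.trans
      (Ideal.Quotient.eq_zero_iff_mem.2 (hN (Ideal.pow_mem_pow hzx N)))⟩
  haveI : Module.Finite R M := Algebra.IsIntegral.finite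
  let A := k ⊗[R] M
  let ι : H →ₐ[R] A := (Algebra.TensorProduct.includeRight).comp (Ideal.Quotient.mkₐ R K)
  have hι : ∀ z, ι z = (1 : k) ⊗ₜ Ideal.Quotient.mk K z := fun z => rfl
  let εk : M →ₐ[R] k := Ideal.Quotient.liftₐ K ((IsScalarTower.toAlgHom R R k).comp ε) fun z hz =>
    Ideal.algebraMap_residueField_eq_zero.2 (hx hz)
  let ρ : A →ₐ[k] k := Algebra.TensorProduct.lift (AlgHom.id k k) εk fun _ _ => Commute.all _ _
  have hρ : ∀ z, ρ (ι z) = algebraMap R k (ε z) := fun z => by
    rw [hι]
    exact (Algebra.TensorProduct.lift_tmul _ _ _ _ _).trans (one_mul _)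
  have hnil : ∀ y : A, IsNilpotent (y - algebraMap k A (ρ y)) := by
    intro y
    induction y using TensorProduct.induction_on with
    | zero => rw [map_zero, map_zero, sub_zero]; exact IsNilpotent.zero
    | add a b ha hb =>
      rw [map_add, map_add, add_sub_add_comm]
      exact (Commute.all _ _).isNilpotent_add ha hb
    | tmul c m =>
      obtain ⟨z, rfl⟩ := Ideal.Quotient.mk_surjective m
      have hzx : z - algebraMap R H (ε z) ∈ x := by
        change ε (z - algebraMap R H (ε z)) ∈ p
        simp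
      have e : c ⊗ₜ[R] Ideal.Quotient.mk K z - algebraMap k A (ρ (c ⊗ₜ Ideal.Quotient.mk K z)) =
          algebraMap k A c * ι (z - algebraMap R H (ε z)) := by
        have h1 : c ⊗ₜ[R] Ideal.Quotient.mk K z = algebraMap k A c * ι z := by
          rw [hι, Algebra.TensorProduct.algebraMap_apply, Algebra.TensorProduct.tmul_mul_tmul, mul_one, one_mul]
          rfl
        rw [h1, map_mul ρ, AlgHom.commutes, hρ, map_mul, map_sub, mul_sub, AlgHom.commutes,
          ← IsScalarTower.algebraMap_apply R k A]
        rfl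
      rw [e]
      refine (Commute.all _ _).isNilpotent_mul_left ⟨N, ?_⟩
      rw [← map_pow, hι, Ideal.Quotient.eq_zero_iff_mem.2 (hN (Ideal.pow_mem_pow hzx N)), tmul_zero]
  have hunit : ∀ y : A, ρ y ≠ 0 → IsUnit y := fun y hy => by
    rw [show y = algebraMap k A (ρ y) + (y - algebraMap k A (ρ y)) by abel]
    exact IsNilpotent.isUnit_add_left_of_commute (hnil y) ((isUnit_iff_ne_zero.2 hy).map _) (Commute.all _ _)
  haveI : Nontrivial A := ρ.toRingHom.domain_nontrivial
  have hspan : ⊤ ≤ Submodule.span k (Set.range ι) := fun y _ => by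
    induction y using TensorProduct.induction_on with
    | zero => exact zero_mem _
    | add a b ha hb => exact add_mem (ha trivial) (hb trivial)
    | tmul c m =>
      obtain ⟨z, rfl⟩ := Ideal.Quotient.mk_surjective m
      have : c ⊗ₜ[R] Ideal.Quotient.mk K z = c • ι z := by
        rw [hι, TensorProduct.smul_tmul', smul_eq_mul, mul_one]
      rw [this]
      exact Submodule.smul_mem _ _ (Submodule.subset_span ⟨z, rfl⟩)
  have h1 : LinearIndepOn k id ({(1 : A)} : Set A) := (linearIndepOn_singleton_iff k).2 one_ne_zero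
  have h1s : ({(1 : A)} : Set A) ⊆ Set.range ι := by simpa using ⟨(1 : H), map_one ι⟩
  obtain ⟨b, hbs, h1b, hbspan, hbli⟩ := exists_linearIndepOn_extension h1 h1s
  simp only [Set.image_id] at hbspan
  have hbtop : ⊤ ≤ Submodule.span k (Set.range (fun y : b => (y : A))) := by
    rw [Subtype.range_coe]
    exact hspan.trans (Submodule.span_le.2 hbspan)
  let v₀ : Module.Basis b k A := Module.Basis.mk hbli.linearIndependent hbtop
  haveI : Finite b := Module.Finite.finite_basis v₀
  haveI : Fintype b := Fintype.ofFinite b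
  let o : b := ⟨1, h1b rfl⟩
  obtain ⟨n, hn⟩ : ∃ n, Fintype.card b = n + 1 :=
    Nat.exists_eq_succ_of_ne_zero (haveI : Nonempty b := ⟨o⟩; Fintype.card_ne_zero)
  let e₁ : b ≃ Fin (n + 1) := Fintype.equivFinOfCardEq hn
  let e := e₁.trans (Equiv.swap (e₁ o) 0)
  let v := v₀.reindex e
  have hv : ∀ i, v i = ((e.symm i : b) : A) := fun i => by
    rw [Module.Basis.reindex_apply]; exact Module.Basis.mk_apply _ _ _
  have hv0 : v 0 = 1 := by
    rw [hv]
    have he : e o = 0 := Equiv.swap_apply_left _ _
    rw [show e.symm 0 = o from (Equiv.symm_apply_eq e).2 he.symm]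
  obtain ⟨S, E, -, hE⟩ := exists_str_of_basis v hv0
  choose h hh using fun i => hbs (e.symm i).2
  refine ⟨n, ⟨S, (E.symm.toAlgHom.restrictScalars R).comp ι⟩, ρ.toRingHom.comp E.toRingEquiv.toRingHom, h,
    fun i => ?_, fun y hy => ?_, fun c => ?_, fun z => ?_, fun z hz => ?_, fun z hz => ?_⟩
  · change E.symm (ι (h i)) = _
    rw [hh, ← hv, ← hE, E.symm_apply_apply]
  · have := (hunit (E y) hy).map E.symm
    rwa [E.symm_apply_apply] at this
  · change ρ (E (algebraMap k _ c)) = c
    rw [E.commutes, ρ.commutes]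
    rfl
  · change ρ (E (E.symm (ι z))) = _
    rw [E.apply_symm_apply, hρ]
  · change E.symm (ι z) = 0
    rw [hι, Ideal.Quotient.eq_zero_iff_mem.2 hz, tmul_zero, map_zero]
  · have hz' : ι z = 0 := E.symm.injective (hz.trans (map_zero E.symm).symm)
    let q := R ⧸ p
    letI : Module q M := Module.IsTorsionBySet.module (fun m a => by
      obtain ⟨y, rfl⟩ := Ideal.Quotient.mk_surjective m
      change Ideal.Quotient.mk K (a.1 • y) = 0
      rw [Ideal.Quotient.eq_zero_iff_mem, Algebra.smul_def]
      exact K.mul_mem_right _ (hpK (Ideal.mem_map_of_mem _ a.2)))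
    haveI : IsScalarTower R q M := Module.IsTorsionBySet.isScalarTower _
    haveI : IsFractionRing q k := inferInstance
    let l : M →ₗ[q] k ⊗[q] M := TensorProduct.mk q k M 1
    haveI : IsLocalizedModule (nonZeroDivisors q) l :=
      (isLocalizedModule_iff_isBaseChange (nonZeroDivisors q) k _).2 (TensorProduct.isBaseChange q M k)
    let c : A →+ k ⊗[q] M := TensorProduct.liftAddHom
      { toFun := fun c =>
          { toFun := fun m => c ⊗ₜ[q] m
            map_zero' := tmul_zero _ _
            map_add' := tmul_add _ }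
        map_zero' := AddMonoidHom.ext fun m => zero_tmul _ _
        map_add' := fun a b => AddMonoidHom.ext fun m => add_tmul _ _ _ }
      (fun r c m => by
        change (r • c) ⊗ₜ[q] m = c ⊗ₜ[q] (r • m)
        rw [← IsScalarTower.algebraMap_smul q r c, ← IsScalarTower.algebraMap_smul q r m, TensorProduct.smul_tmul])
    have h0 : l (Ideal.Quotient.mk K z) = 0 := (congrArg c hz').trans (map_zero c)
    obtain ⟨⟨s, hs⟩, hsz⟩ := (IsLocalizedModule.eq_zero_iff (nonZeroDivisors q) l).1 h0
    obtain ⟨u, rfl⟩ := Ideal.Quotient.mk_surjective s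
    refine ⟨u, fun hu => nonZeroDivisors.ne_zero hs (Ideal.Quotient.eq_zero_iff_mem.2 hu), ?_⟩
    rw [← Ideal.Quotient.eq_zero_iff_mem, ← Algebra.smul_def]
    refine (IsScalarTower.algebraMap_smul q u (Ideal.Quotient.mk K z)).symm.trans hsz

end GrothLib.BGAtlas
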