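import Groth.Prelude.Def_AlgGrp
import Groth.Prelude.Def_RegImm
import Groth.Agent.Lib.BGAtlas.Param
import Groth.Agent.Lib.LciGrp13.Main
import Groth.Agent.S9363
import Mathlib.AlgebraicGeometry.Morphisms.Affine
import Mathlib.AlgebraicGeometry.Morphisms.Flat
import Mathlib.AlgebraicGeometry.Morphisms.FinitePresentation

/-!
# Affine points of an affine group scheme over an affine open, and the translation action on structures
-/

set_option autoImplicit false
set_option linter.style.haveILetI false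
set_option backward.isDefEq.respectTransparency false
set_option backward.isDefEq.respectTransparency.types false

universe u

open CategoryTheory CategoryTheory.Limits AlgebraicGeometry MonoidalCategory CartesianMonoidalCategory MonObj

namespace GrothLib.BGAtlas

variable {S : Scheme.{u}} {V : S.Opens} (hV : IsAffineOpen V)

/-- An affine scheme over the open, as a scheme over the base. -/
noncomputable abbrev specO (C : Type u) [CommRing C] [Algebra Γ(S, V) C] : Over S :=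
  Over.mk (Spec.map (CommRingCat.ofHom (algebraMap Γ(S, V) C)) ≫ hV.fromSpec)

variable {C D E : Type u} [CommRing C] [Algebra Γ(S, V) C] [CommRing D] [Algebra Γ(S, V) D] [CommRing E]
  [Algebra Γ(S, V) E]

/-- The morphism of an algebra map. -/
noncomputable def mapO (f : C →ₐ[Γ(S, V)] D) : specO hV D ⟶ specO hV C :=
  Over.homMk (Spec.map (CommRingCat.ofHom f.toRingHom)) (by
    change Spec.map _ ≫ Spec.map _ ≫ hV.fromSpec = Spec.map _ ≫ hV.fromSpec
    rw [← Spec.map_comp_assoc, ← CommRingCat.ofHom_comp]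
    congr 3
    exact f.comp_algebraMap)

theorem mapO_left (f : C →ₐ[Γ(S, V)] D) : (mapO hV f).left = Spec.map (CommRingCat.ofHom f.toRingHom) := rfl

theorem mapO_comp (f : C →ₐ[Γ(S, V)] D) (g : D →ₐ[Γ(S, V)] E) :
    mapO hV (g.comp f) = mapO hV g ≫ mapO hV f :=
  Over.OverMorphism.ext (by
    rw [Over.comp_left, mapO_left, mapO_left, mapO_left, ← Spec.map_comp, ← CommRingCat.ofHom_comp]
    rfl)

theorem mapO_id : mapO hV (AlgHom.id Γ(S, V) C) = 𝟙 _ :=
  Over.OverMorphism.ext ((congrArg Spec.map CommRingCat.ofHom_id).trans (Spec.map_id _))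

theorem exists_mapO (m : specO hV D ⟶ specO hV C) : ∃ f : C →ₐ[Γ(S, V)] D, mapO hV f = m := by
  have h := Over.w m
  change m.left ≫ Spec.map _ ≫ hV.fromSpec = Spec.map _ ≫ hV.fromSpec at h
  rw [← Category.assoc, cancel_mono, ← Spec.map_preimage m.left, ← Spec.map_comp] at h
  have h' := congrArg CommRingCat.Hom.hom (Spec.map_injective h)
  exact ⟨{ (Spec.preimage m.left).hom with commutes' := fun r => RingHom.congr_fun h' r },
    Over.OverMorphism.ext (Spec.map_preimage m.left)⟩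

theorem mapO_injective : Function.Injective (mapO hV : (C →ₐ[Γ(S, V)] D) → _) := fun f g h => by
  have := congrArg CommRingCat.Hom.hom (Spec.map_injective (congrArg CommaMorphism.left h))
  exact AlgHom.ext fun x => RingHom.congr_fun this x

/-- An affine scheme over an affine scheme over the open is of this form. -/
theorem exists_specO_iso {B : Type u} [CommRing B] [Algebra Γ(S, V) B] {X : Over S} (h : X ⟶ specO hV B)
    [IsAffine X.left] :
    ∃ (C : Type u) (_ : CommRing C) (_ : Algebra Γ(S, V) C), Nonempty (specO hV C ≅ X) := by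
  let φ := Spec.preimage (X.left.isoSpec.inv ≫ h.left)
  letI : Algebra Γ(S, V) Γ(X.left, ⊤) := (φ.hom.comp (algebraMap Γ(S, V) B)).toAlgebra
  refine ⟨Γ(X.left, ⊤), inferInstance, inferInstance, ⟨Over.isoMk X.left.isoSpec.symm ?_⟩⟩
  have hw := Over.w h
  change X.left.isoSpec.inv ≫ X.hom = Spec.map (CommRingCat.ofHom (φ.hom.comp (algebraMap Γ(S, V) B))) ≫ hV.fromSpec
  rw [← hw, CommRingCat.ofHom_comp, Spec.map_comp, CommRingCat.ofHom_hom, Spec.map_preimage]
  simp only [Category.assoc]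
  rfl

/-- Coordinates of an affine group scheme over the open. -/
theorem exists_coord (G : Over S) [GrpObj G] [IsAffineHom G.hom] [Flat G.hom] [LocallyOfFinitePresentation G.hom] :
    ∃ (H : Type u) (_ : CommRing H) (_ : Algebra Γ(S, V) H) (g₀ : specO hV H ⟶ G),
      Algebra.FinitePresentation Γ(S, V) H ∧ Module.Flat Γ(S, V) H ∧ Synt.IsSyntomic Γ(S, V) H ∧
      ∀ (C : Type u) [CommRing C] [Algebra Γ(S, V) C],
        Function.Bijective fun f : H →ₐ[Γ(S, V)] C => mapO hV f ≫ g₀ := by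
  have hU : IsAffineOpen (G.hom ⁻¹ᵁ V) := hV.preimage G.hom
  let U := G.hom ⁻¹ᵁ V
  letI : Algebra Γ(S, V) Γ(G.left, U) := (G.hom.appLE V U le_rfl).hom.toAlgebra
  have hw : Spec.map (CommRingCat.ofHom (algebraMap Γ(S, V) Γ(G.left, U))) ≫ hV.fromSpec = hU.fromSpec ≫ G.hom :=
    IsAffineOpen.SpecMap_appLE_fromSpec G.hom hV hU le_rfl
  let g₀ : specO hV Γ(G.left, U) ⟶ G := Over.homMk hU.fromSpec hw.symm
  refine ⟨Γ(G.left, U), inferInstance, inferInstance, g₀, G.hom.finitePresentation_appLE hV hU le_rfl,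
    HasRingHomProperty.appLE (P := @Flat) G.hom inferInstance ⟨V, hV⟩ ⟨U, hU⟩ le_rfl,
    (Groth.Agent.S9363.result G.hom).1 (GrothLib.LciGrp13.isSyntomicMor G) ⟨U, hU⟩ ⟨V, hV⟩ le_rfl,
    fun C _ _ => ⟨fun f f' h => mapO_injective hV (Over.OverMorphism.ext ?_), fun m => ?_⟩⟩
  · have := congrArg CommaMorphism.left h
    simp only [Over.comp_left] at this
    exact (cancel_mono hU.fromSpec).1 this
  · have hm := Over.w m
    change m.left ≫ G.hom = Spec.map _ ≫ hV.fromSpec at hm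
    have hrange : Set.range m.left ⊆ Set.range hU.fromSpec := by
      rintro _ ⟨z, rfl⟩
      rw [hU.range_fromSpec]
      change G.hom (m.left z) ∈ (V : Set S)
      rw [← Scheme.Hom.comp_apply, hm, ← hV.range_fromSpec]
      exact ⟨_, rfl⟩
    let q := IsOpenImmersion.lift hU.fromSpec m.left hrange
    have hq : q ≫ hU.fromSpec = m.left := IsOpenImmersion.lift_fac _ _ _
    let q' : specO hV C ⟶ specO hV Γ(G.left, U) := Over.homMk q (by
      change q ≫ Spec.map _ ≫ hV.fromSpec = _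
      rw [hw, reassoc_of% hq]
      exact hm)
    obtain ⟨f, hf⟩ := exists_mapO hV q'
    refine ⟨f, Over.OverMorphism.ext ?_⟩
    simp only [hf, Over.comp_left]
    exact hq

section translate

variable {G : Over S} [GrpObj G] {H : Type u} [CommRing H] [Algebra Γ(S, V) H] (g₀ : specO hV H ⟶ G)
  (hg₀ : ∀ (C : Type u) [CommRing C] [Algebra Γ(S, V) C],
    Function.Bijective fun f : H →ₐ[Γ(S, V)] C => mapO hV f ≫ g₀)
  {n : ℕ}

/-- The coordinates of a point. -/
noncomputable def coordsOf (m : specO hV C ⟶ G) : H →ₐ[Γ(S, V)] C := (Equiv.ofBijective _ (hg₀ C)).symm m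

include hg₀ in
theorem coordsOf_spec (m : specO hV C ⟶ G) : mapO hV (coordsOf hV g₀ hg₀ m) ≫ g₀ = m :=
  (Equiv.ofBijective _ (hg₀ C)).apply_symm_apply m

/-- Translation of a structure by a point. -/
noncomputable def trFr (m : specO hV C ⟶ G) (p : Fr Γ(S, V) H C n) : Fr Γ(S, V) H C n :=
  ⟨p.str, coordsOf hV g₀ hg₀
    ((mapO hV (IsScalarTower.toAlgHom Γ(S, V) C (Alg p.str)) ≫ m) * (mapO hV p.hom ≫ g₀))⟩

theorem trFr_spec (m : specO hV C ⟶ G) (p : Fr Γ(S, V) H C n) :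
    mapO hV (trFr hV g₀ hg₀ m p).hom ≫ g₀ =
      (mapO hV (IsScalarTower.toAlgHom Γ(S, V) C (Alg p.str)) ≫ m) * (mapO hV p.hom ≫ g₀) :=
  coordsOf_spec hV g₀ hg₀ _

theorem trFr_map (m : specO hV C ⟶ G) (p : Fr Γ(S, V) H C n) (f : C →ₐ[Γ(S, V)] D) :
    (trFr hV g₀ hg₀ m p).map f = trFr hV g₀ hg₀ (mapO hV f ≫ m) (p.map f) := by
  refine congrArg (Fr.mk (p.str.map f.toRingHom)) ((hg₀ _).1 ?_)
  change mapO hV ((Alg.mapₐ p.str f).comp (trFr hV g₀ hg₀ m p).hom) ≫ g₀ =
    mapO hV (trFr hV g₀ hg₀ (mapO hV f ≫ m) (p.map f)).hom ≫ g₀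
  have e : (Alg.mapₐ p.str f).comp (IsScalarTower.toAlgHom Γ(S, V) C (Alg p.str)) =
      (IsScalarTower.toAlgHom Γ(S, V) D (Alg (p.map f).str)).comp f :=
    AlgHom.ext fun c => Alg.map_algebraMap f.toRingHom c
  rw [mapO_comp, Category.assoc, trFr_spec, trFr_spec, MonObj.comp_mul, ← Category.assoc, ← mapO_comp, e, mapO_comp,
    Category.assoc, ← Category.assoc (mapO hV (Alg.mapₐ p.str f)), ← mapO_comp]
  rfl

theorem trFr_one (p : Fr Γ(S, V) H C n) : trFr hV g₀ hg₀ 1 p = p := by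
  obtain ⟨s, h⟩ := p
  refine congrArg (Fr.mk s) ((hg₀ _).1 ?_)
  change mapO hV (trFr hV g₀ hg₀ 1 ⟨s, h⟩).hom ≫ g₀ = mapO hV h ≫ g₀
  rw [trFr_spec, MonObj.comp_one, _root_.one_mul]

theorem trFr_mul (x y : specO hV C ⟶ G) (p : Fr Γ(S, V) H C n) :
    trFr hV g₀ hg₀ (x * y) p = trFr hV g₀ hg₀ x (trFr hV g₀ hg₀ y p) := by
  refine congrArg (Fr.mk p.str) ((hg₀ _).1 ?_)
  change mapO hV (trFr hV g₀ hg₀ (x * y) p).hom ≫ g₀ = mapO hV (trFr hV g₀ hg₀ x (trFr hV g₀ hg₀ y p)).hom ≫ g₀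
  rw [trFr_spec, trFr_spec hV g₀ hg₀ x]
  conv_rhs => arg 2; rw [trFr_spec]
  rw [MonObj.comp_mul, _root_.mul_assoc]
  rfl

theorem eq_one_of_trFr (x : specO hV C ⟶ G) (p : Fr Γ(S, V) H C n) (h : trFr hV g₀ hg₀ x p = p) : x = 1 := by
  have h1 : mapO hV (IsScalarTower.toAlgHom Γ(S, V) C (Alg p.str)) ≫ x = 1 := by
    have h' : (trFr hV g₀ hg₀ x p).hom = p.hom := AlgHom.ext fun z => Alg.ext fun i =>
      congrArg (fun q : Fr Γ(S, V) H C n => Alg.coords (q.hom z) i) h
    refine (_root_.mul_eq_right (b := mapO hV p.hom ≫ g₀)).1 ((trFr_spec hV g₀ hg₀ x p).symm.trans ?_)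
    exact congrArg (fun q : H →ₐ[Γ(S, V)] Alg p.str => mapO hV q ≫ g₀) h' 
  have hinj : Function.Injective
      (fun u : H →ₐ[Γ(S, V)] C => (IsScalarTower.toAlgHom Γ(S, V) C (Alg p.str)).comp u) :=
    fun u v e => AlgHom.ext fun z => Alg.algebraMap_injective (AlgHom.congr_fun e z)
  rw [← coordsOf_spec hV g₀ hg₀ x, ← coordsOf_spec hV g₀ hg₀ (1 : specO hV C ⟶ G)]
  congr 2
  refine hinj ((hg₀ _).1 ?_)
  simp only [mapO_comp, Category.assoc, coordsOf_spec, MonObj.comp_one, h1]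

set_option maxHeartbeats 400000 in
/-- The translation action on the space of structures; it is free. -/
theorem exists_action [IsAffineHom G.hom] {B : Type u} [CommRing B] [Algebra Γ(S, V) B] (b : Fr Γ(S, V) H B n)
    (hu : ∀ (C : Type u) [CommRing C] [Algebra Γ(S, V) C] (p : Fr Γ(S, V) H C n),
      ∃! f : B →ₐ[Γ(S, V)] C, b.map f = p)
    (g₀' : specO hV H ⟶ G) (hg₀' : ∀ (C : Type u) [CommRing C] [Algebra Γ(S, V) C],
      Function.Bijective fun f : H →ₐ[Γ(S, V)] C => mapO hV f ≫ g₀') :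
    ∃ a : AlgGrp.Action G (specO hV B),
      ∀ (T : Over S) (g : T ⟶ G) (w : T ⟶ specO hV B), lift g w ≫ a.act = w → g = 1 := by
  let W := specO hV B
  have haff : ∀ Y : Over S, IsAffine Y.left → IsAffine (G ⊗ Y).left := fun Y hY => by
    have : IsAffineHom (pullback.snd G.hom Y.hom) := inferInstance
    exact isAffine_of_isAffineHom (pullback.snd G.hom Y.hom)
  haveI hW : IsAffine W.left := inferInstanceAs (IsAffine (Spec (CommRingCat.of B)))
  haveI := haff W hW
  obtain ⟨C₁, _, _, ⟨e₁⟩⟩ := exists_specO_iso hV (snd G W)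
  obtain ⟨k₁, hk₁⟩ := exists_mapO hV (e₁.hom ≫ snd G W)
  obtain ⟨f₁, hf₁, -⟩ := hu C₁ (trFr hV g₀' hg₀' (e₁.hom ≫ fst G W) (b.map k₁))
  let act : G ⊗ W ⟶ W := e₁.inv ≫ mapO hV f₁
  have hext : ∀ {C : Type u} [CommRing C] [Algebra Γ(S, V) C] (f f' : B →ₐ[Γ(S, V)] C),
      b.map f = b.map f' → f = f' := fun {C} _ _ f f' h => (hu C (b.map f)).unique rfl h.symm
  have key : ∀ {C : Type u} [CommRing C] [Algebra Γ(S, V) C] (m : specO hV C ⟶ G ⊗ W) (k f : B →ₐ[Γ(S, V)] C),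
      mapO hV k = m ≫ snd G W → mapO hV f = m ≫ act →
      b.map f = trFr hV g₀' hg₀' (m ≫ fst G W) (b.map k) := fun {C} _ _ m k f hk hf => by
    obtain ⟨l, hl⟩ := exists_mapO hV (m ≫ e₁.inv)
    have e1 : f = l.comp f₁ := mapO_injective hV (by rw [mapO_comp, hl, hf, Category.assoc])
    have e2 : k = l.comp k₁ := mapO_injective hV (by
      rw [mapO_comp, hl, hk, hk₁, Category.assoc, Iso.inv_hom_id_assoc])
    rw [e1, e2, Fr.map_comp, hf₁, trFr_map, Fr.map_comp, hl, Category.assoc, Iso.inv_hom_id_assoc]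
  have hone : (η[G] ▷ W) ≫ act = (λ_ W).hom := by
    rw [← cancel_epi (λ_ W).inv, Iso.inv_hom_id]
    let m : W ⟶ G ⊗ W := (λ_ W).inv ≫ (η[G] ▷ W)
    obtain ⟨f, hf⟩ := exists_mapO hV (m ≫ act)
    have hs : mapO hV (AlgHom.id Γ(S, V) B) = m ≫ snd G W := by
      rw [mapO_id, Category.assoc, whiskerRight_snd]
      simp only [leftUnitor_inv_snd]
      rfl
    have h1 : m ≫ fst G W = 1 := by
      rw [Category.assoc, whiskerRight_fst, Hom.one_def, ← Category.assoc]
      congr 1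
      exact toUnit_unique _ _
    have h2 := key m _ f hs hf
    rw [h1, trFr_one] at h2
    rw [← Category.assoc]
    change m ≫ act = _
    rw [← hf, hext f _ h2, mapO_id]
  have hmul : (μ[G] ▷ W) ≫ act = (α_ G G W).hom ≫ (G ◁ act) ≫ act := by
    rw [← cancel_epi (α_ G G W).inv, Iso.inv_hom_id_assoc]
    haveI := haff (G ⊗ W) inferInstance
    obtain ⟨C₂, _, _, ⟨e₂⟩⟩ := exists_specO_iso hV (snd G (G ⊗ W) ≫ snd G W)
    rw [← cancel_epi e₂.hom]
    let m₂ : specO hV C₂ ⟶ G ⊗ (G ⊗ W) := e₂.hom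
    let x := m₂ ≫ fst G (G ⊗ W)
    let yw := m₂ ≫ snd G (G ⊗ W)
    let mxy : specO hV C₂ ⟶ G ⊗ W := m₂ ≫ (α_ G G W).inv ≫ (μ[G] ▷ W)
    let mx : specO hV C₂ ⟶ G ⊗ W := m₂ ≫ (G ◁ act)
    obtain ⟨k, hk⟩ := exists_mapO hV (yw ≫ snd G W)
    obtain ⟨f, hf⟩ := exists_mapO hV (yw ≫ act)
    obtain ⟨fl, hfl⟩ := exists_mapO hV (mxy ≫ act)
    obtain ⟨fr, hfr⟩ := exists_mapO hV (mx ≫ act)
    have h1 : mxy ≫ fst G W = x * (yw ≫ fst G W) := by
      simp only [mxy, Category.assoc, whiskerRight_fst, Hom.mul_def, x, yw]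
      rw [← Category.assoc (α_ G G W).inv, ← Category.assoc]
      congr 1
      apply CartesianMonoidalCategory.hom_ext <;> simp
    have h2 : mxy ≫ snd G W = yw ≫ snd G W := by simp [mxy, yw]
    have h3 : mx ≫ fst G W = x := by simp [mx, x]
    have h4 : mx ≫ snd G W = yw ≫ act := by simp [mx, yw]
    have hl := key mxy k fl (by rw [hk, h2]) hfl
    have hy := key yw k f hk hf
    have hr := key mx f fr (by rw [hf, h4]) hfr
    rw [h1, trFr_mul, ← hy, ← h3] at hl
    have e : fl = fr := hext _ _ (hl.trans hr.symm)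
    change m₂ ≫ (α_ G G W).inv ≫ (μ[G] ▷ W) ≫ act = m₂ ≫ (G ◁ act) ≫ act
    calc m₂ ≫ (α_ G G W).inv ≫ (μ[G] ▷ W) ≫ act = mxy ≫ act := by simp [mxy]
      _ = mx ≫ act := by rw [← hfl, e, hfr]
      _ = _ := by simp [mx]
  refine ⟨⟨act, hone, hmul⟩, fun T g w h => ?_⟩
  refine Over.OverMorphism.ext (T.left.affineCover.hom_ext _ _ fun i => ?_)
  let X : Over S := Over.mk (T.left.affineCover.f i ≫ T.hom)
  let j : X ⟶ T := Over.homMk (T.left.affineCover.f i) rfl
  haveI : IsAffine X.left := inferInstanceAs (IsAffine (T.left.affineCover.X i))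
  obtain ⟨C, _, _, ⟨e⟩⟩ := exists_specO_iso hV (j ≫ w)
  obtain ⟨k, hk⟩ := exists_mapO hV (e.hom ≫ j ≫ w)
  have hkk := key ((e.hom ≫ j) ≫ lift g w) k k (by rw [hk]; simp) (by rw [hk, Category.assoc, Category.assoc, h])
  rw [Category.assoc _ _ (fst G W), lift_fst] at hkk
  have h5 := eq_one_of_trFr hV g₀' hg₀' _ _ hkk.symm
  rw [← MonObj.comp_one (e.hom ≫ j), Category.assoc, Category.assoc, cancel_epi e.hom] at h5
  exact congrArg CommaMorphism.left h5

end translate

end GrothLib.BGAtlas
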