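import Groth.Agent.Lib.BGAtlas.Space
import Mathlib.AlgebraicGeometry.Limits

/-!
# Disjoint unions of schemes with action
-/

set_option autoImplicit false
set_option linter.style.haveILetI false
set_option backward.isDefEq.respectTransparency false
set_option backward.isDefEq.respectTransparency.types false

universe u

open CategoryTheory CategoryTheory.Limits AlgebraicGeometry MonoidalCategory CartesianMonoidalCategory MonObj

namespace GrothLib.BGAtlas

variable {S : Scheme.{u}} {σ : Type u} (F : σ → Over S)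

/-- The disjoint union over the base. -/
noncomputable abbrev sigmaO : Over S := Over.mk (Sigma.desc fun i => (F i).hom)

/-- The inclusion of a summand. -/
noncomputable abbrev sigmaιO (i : σ) : F i ⟶ sigmaO F :=
  Over.homMk (Sigma.ι (fun i => (F i).left) i) (Sigma.ι_desc _ _)

theorem exists_summand (w : (sigmaO F).left) : ∃ i, w ∈ Set.range (sigmaιO F i).left :=
  ⟨(Scheme.Cover.exists_eq (sigmaOpenCover fun i => (F i).left) w).choose, (Scheme.Cover.exists_eq (sigmaOpenCover fun i => (F i).left) w).choose_spec.choose, (Scheme.Cover.exists_eq (sigmaOpenCover fun i => (F i).left) w).choose_spec.choose_spec⟩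

variable (Y : Over S)

theorem isOpenImmersion_whisker (i : σ) : IsOpenImmersion (Y ◁ sigmaιO F i).left :=
  MorphismProperty.of_isPullback (P := @IsOpenImmersion)
    ((AlgSt.isPullback_whiskerLeft (G := Y) (sigmaιO F i)).map (Over.forget S)).flip
    (inferInstanceAs (IsOpenImmersion (Sigma.ι (fun i => (F i).left) i)))

/-- Products distribute over disjoint unions. -/
theorem exists_distrib : ∃ e : sigmaO (fun i => Y ⊗ F i) ≅ Y ⊗ sigmaO F,
    ∀ i, sigmaιO (fun i => Y ⊗ F i) i ≫ e.hom = Y ◁ sigmaιO F i := by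
  haveI := fun i => isOpenImmersion_whisker F Y i
  let κ : (sigmaO fun i => Y ⊗ F i).left ⟶ (Y ⊗ sigmaO F).left := Sigma.desc fun i => (Y ◁ sigmaιO F i).left
  have hsnd : ∀ i z, (snd Y (sigmaO F)).left ((Y ◁ sigmaιO F i).left z) ∈ Set.range (sigmaιO F i).left := fun i z => by
    rw [← Scheme.Hom.comp_apply, ← Over.comp_left, whiskerLeft_snd, Over.comp_left, Scheme.Hom.comp_apply]
    exact ⟨_, rfl⟩
  haveI : IsOpenImmersion κ := by
    refine isOpenImmersion_sigmaDesc _ _ fun i j hij => ?_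
    refine Set.disjoint_left.2 fun z ⟨z₁, h₁⟩ ⟨z₂, h₂⟩ => ?_
    obtain ⟨y₁, hy₁⟩ := hsnd i z₁
    obtain ⟨y₂, hy₂⟩ := hsnd j z₂
    rw [h₁] at hy₁
    rw [h₂] at hy₂
    exact hij (congrArg Sigma.fst ((sigmaι_eq_iff (fun i => (F i).left) i j y₁ y₂).1 (hy₁.trans hy₂.symm)))
  have hsurj : Function.Surjective κ := fun z => by
    obtain ⟨i, y, hy⟩ := exists_summand F ((snd Y (sigmaO F)).left z)
    have sq := (AlgSt.isPullback_whiskerLeft (G := Y) (sigmaιO F i)).map (Over.forget S)
    obtain ⟨w, hw, -⟩ := Scheme.exists_preimage_of_isPullback sq z y hy.symm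
    refine ⟨Sigma.ι (fun i => (Y ⊗ F i).left) i (w : (Y ⊗ F i).left), ?_⟩
    refine Eq.trans ?_ hw
    exact congrArg (fun k : (Y ⊗ F i).left ⟶ (Y ⊗ sigmaO F).left => k w) (Sigma.ι_desc (fun i => (Y ◁ sigmaιO F i).left) i)
  haveI : Surjective κ := ⟨hsurj⟩
  haveI : IsIso κ := (isIso_iff_isOpenImmersion_and_epi_base κ).2 ⟨inferInstance, (TopCat.epi_iff_surjective _).2 hsurj⟩
  have hκ : κ ≫ (Y ⊗ sigmaO F).hom = (sigmaO fun i => Y ⊗ F i).hom := Sigma.hom_ext _ _ fun i => by
    rw [Sigma.ι_desc_assoc]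
    change _ = Sigma.ι (fun i => (Y ⊗ F i).left) i ≫ Sigma.desc fun i => (Y ⊗ F i).hom
    rw [Sigma.ι_desc]
    exact Over.w (Y ◁ sigmaιO F i)
  exact ⟨Over.isoMk (asIso κ) hκ, fun i => Over.OverMorphism.ext (Sigma.ι_desc _ _)⟩

theorem hom_ext_sigma {Z : Over S} {f g : Y ⊗ sigmaO F ⟶ Z}
    (h : ∀ i, (Y ◁ sigmaιO F i) ≫ f = (Y ◁ sigmaιO F i) ≫ g) : f = g := by
  obtain ⟨e, he⟩ := exists_distrib F Y
  rw [← cancel_epi e.hom]
  refine Over.OverMorphism.ext (Sigma.hom_ext _ _ fun i => ?_)
  have := congrArg CommaMorphism.left (h i)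
  rw [← he] at this
  simp only [Category.assoc, Over.comp_left] at this ⊢
  exact this

variable {G : Over S} [GrpObj G]

/-- A disjoint union of free actions. -/
theorem exists_sigma_action (a : ∀ i, AlgGrp.Action G (F i))
    (hfree : ∀ i (T : Over S) (g : T ⟶ G) (w : T ⟶ F i), lift g w ≫ (a i).act = w → g = 1) :
    ∃ A : AlgGrp.Action G (sigmaO F),
      ∀ (T : Over S) (g : T ⟶ G) (w : T ⟶ sigmaO F), lift g w ≫ A.act = w → g = 1 := by
  obtain ⟨e, he⟩ := exists_distrib F G
  let d : sigmaO (fun i => G ⊗ F i) ⟶ sigmaO F :=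
    Over.homMk (Sigma.desc fun i => ((a i).act ≫ sigmaιO F i).left) (Sigma.hom_ext _ _ fun i => by
      rw [Sigma.ι_desc_assoc]
      change _ = Sigma.ι (fun i => (G ⊗ F i).left) i ≫ Sigma.desc fun i => (G ⊗ F i).hom
      rw [Sigma.ι_desc]
      exact Over.w ((a i).act ≫ sigmaιO F i))
  let act : G ⊗ sigmaO F ⟶ sigmaO F := e.inv ≫ d
  have hact : ∀ i, (G ◁ sigmaιO F i) ≫ act = (a i).act ≫ sigmaιO F i := fun i => by
    rw [← he, Category.assoc, Iso.hom_inv_id_assoc]
    exact Over.OverMorphism.ext (Sigma.ι_desc _ _)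
  let A : AlgGrp.Action G (sigmaO F) :=
    { act := act
      one_act := hom_ext_sigma F (𝟙_ (Over S)) fun i => by
        rw [whisker_exchange_assoc, hact, ← Category.assoc, (a i).one_act]
        exact (leftUnitor_naturality (sigmaιO F i)).symm
      mul_act := hom_ext_sigma F (G ⊗ G) fun i => by
        rw [whisker_exchange_assoc, hact, ← Category.assoc, (a i).mul_act, associator_naturality_right_assoc,
          ← MonoidalCategory.whiskerLeft_comp_assoc, hact, MonoidalCategory.whiskerLeft_comp_assoc, hact]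
        simp only [Category.assoc] }
  refine ⟨A, fun T g w h => ?_⟩
  refine Over.OverMorphism.ext (Scheme.Cover.hom_ext ((sigmaOpenCover fun i => (F i).left).pullback₁ w.left) _ _ fun i => ?_)
  let T' : Over S := Over.mk (pullback.fst w.left (Sigma.ι (fun i => (F i).left) i) ≫ T.hom)
  let j : T' ⟶ T := Over.homMk (pullback.fst w.left (Sigma.ι (fun i => (F i).left) i)) rfl
  let w' : T' ⟶ F i := Over.homMk (pullback.snd w.left (Sigma.ι (fun i => (F i).left) i)) (by
    change _ = _ ≫ T.hom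
    rw [← Over.w w, pullback.condition_assoc]
    change _ = _ ≫ Sigma.ι (fun i => (F i).left) i ≫ Sigma.desc fun i => (F i).hom
    rw [Sigma.ι_desc])
  have hw : j ≫ w = w' ≫ sigmaιO F i := Over.OverMorphism.ext pullback.condition
  haveI : Mono (sigmaιO F i) := (Over.forget S).mono_of_mono_map (inferInstanceAs (Mono (Sigma.ι (fun i => (F i).left) i)))
  have h1 : j ≫ g = 1 := hfree i T' (j ≫ g) w' (by
    rw [← cancel_mono (sigmaιO F i), Category.assoc, ← hact, ← Category.assoc, lift_whiskerLeft, ← hw, ← comp_lift,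
      Category.assoc]
    exact congrArg (j ≫ ·) h)
  have := congrArg CommaMorphism.left (h1.trans (MonObj.comp_one j).symm)
  simp only [Over.comp_left] at this
  exact this

/-- A surjective smooth scheme with free action. -/
theorem exists_free_cover [IsAffineHom G.hom] [Flat G.hom] [LocallyOfFinitePresentation G.hom] :
    ∃ (W : Over S) (a : AlgGrp.Action G W), Smooth W.hom ∧ Surjective W.hom ∧
      ∀ (T : Over S) (g : T ⟶ G) (w : T ⟶ W), lift g w ≫ a.act = w → g = 1 := by
  choose F a hsm hfree hmem using fun s : ↥S => exists_free_smooth (G := G) s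
  obtain ⟨A, hA⟩ := exists_sigma_action F a hfree
  refine ⟨sigmaO F, A, IsZariskiLocalAtSource.sigmaDesc hsm, ⟨fun s => ?_⟩, hA⟩
  obtain ⟨z, hz⟩ := hmem s
  refine ⟨Sigma.ι (fun i => (F i).left) s z, ?_⟩
  change (Sigma.desc fun i => (F i).hom) (Sigma.ι (fun i => (F i).left) s z) = s
  rw [← Scheme.Hom.comp_apply, Sigma.ι_desc]
  exact hz

end GrothLib.BGAtlas
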