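import Groth.Agent.Lib.BGAtlas.Regular
import Groth.Agent.Lib.SyntLoc.Field
import Groth.Agent.Lib.LCI6.BaseChange
import Groth.Agent.Lib.RelReg.Transversal
import Groth.Agent.Lib.FibreFlat.RegularFlat
import Groth.Prelude.Def_RegImm
import Mathlib.RingTheory.HopkinsLevitzki

/-!
# A slice at a section through a Cohen–Macaulay fibre
-/

set_option autoImplicit false
set_option linter.style.haveILetI false
set_option backward.isDefEq.respectTransparency false
set_option backward.isDefEq.respectTransparency.types false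

universe u

open TensorProduct RingTheory.Sequence IsLocalRing

namespace GrothLib.BGAtlas

variable {R : Type u} [CommRing R] {H : Type u} [CommRing H] [Algebra R H]

/-- The local ring of a fibre of a syntomic algebra is Cohen–Macaulay. -/
theorem isCohenMacaulay_fibre (hs : Synt.IsSyntomic R H) (p : Ideal R) [p.IsPrime] (x : Ideal H) [x.IsPrime]
    (hx : x.comap (algebraMap R H) = p) :
    LocCoh.IsCohenMacaulayLocalRing
      (Localization.AtPrime x ⧸ (p.map (algebraMap R H)).map (algebraMap H (Localization.AtPrime x))) := by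
  haveI : LocCoh.IsCohenMacaulayRing (p.Fiber H) :=
    GrothLib.SyntLoc.isCohenMacaulayRing_of_isLCI (GrothLib.LCI6.isLCIOver_iff_isLCI.mp (hs.2.2 ⟨p, inferInstance⟩))
  let P₀ : PrimeSpectrum R := ⟨p, inferInstance⟩
  have hmem : (⟨x, inferInstance⟩ : PrimeSpectrum H) ∈ PrimeSpectrum.comap (algebraMap R H) ⁻¹' {P₀} :=
    PrimeSpectrum.ext hx
  let q₁ := PrimeSpectrum.preimageEquivFiber R H P₀ ⟨⟨x, inferInstance⟩, hmem⟩
  have hq₁ : q₁.asIdeal.comap Algebra.TensorProduct.includeRight.toRingHom = x :=
    congrArg (fun z => z.1.asIdeal)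
      ((PrimeSpectrum.preimageEquivFiber R H P₀).symm_apply_apply ⟨⟨x, inferInstance⟩, hmem⟩)
  obtain ⟨e, -⟩ := GrothLib.LCI6.exists_fibre_equiv p q₁.asIdeal x hq₁
  haveI := LocCoh.IsCohenMacaulayRing.isCohenMacaulayLocalRing_localization (R := p.Fiber H) q₁.asIdeal
  exact GrothLib.HB26.isCohenMacaulayLocalRing_of_ringEquiv (R := Localization.AtPrime q₁.asIdeal) e

/-- A regular sequence in the maximal ideal of a Cohen–Macaulay local ring with artinian quotient. -/
theorem exists_regular_artinian (F : Type u) [CommRing F] [hF : LocCoh.IsCohenMacaulayLocalRing F] :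
    ∃ rs : List F, (∀ z ∈ rs, z ∈ maximalIdeal F) ∧ IsRegular F rs ∧ ∃ N : ℕ, maximalIdeal F ^ N ≤ Ideal.ofList rs := by
  have hne : maximalIdeal F • (⊤ : Submodule F F) ≠ ⊤ := by
    rw [Ideal.smul_eq_mul, Ideal.mul_top]
    exact (maximalIdeal.isMaximal F).ne_top
  obtain ⟨d, hd⟩ : ∃ d : ℕ, ringKrullDim F = d := ⟨_, (GrothLib.RegLoc.exists_dim_eq (R := F)).choose_spec.1⟩
  have hdep : (d : ℕ∞) ≤ LocCoh.idealDepth (maximalIdeal F) F := by
    have h0 := hF.supportDim_eq_depth
    rw [Module.supportDim_self_eq_ringKrullDim, hd] at h0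
    exact (WithBot.coe_inj.mp h0).le
  obtain ⟨rs, hlen, hmem, hreg⟩ := (GrothLib.Depth.le_idealDepth_iff_exists _ hne d).1 hdep
  have hle : Ideal.ofList rs ≤ maximalIdeal F := Ideal.span_le.2 hmem
  have hreg' : IsRegular F rs := ⟨hreg, fun htop => by
    rw [Ideal.smul_eq_mul, Ideal.mul_top] at htop
    exact (maximalIdeal.isMaximal F).ne_top (eq_top_iff.2 (htop ▸ hle))⟩
  refine ⟨rs, hmem, hreg', ?_⟩
  haveI : IsLocalRing (F ⧸ Ideal.ofList rs) := GrothLib.RegLoc.isLocalRing_quotient hle
  have h2 := ringKrullDim_add_length_eq_ringKrullDim_of_isRegular rs hreg'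
  obtain ⟨m, hm, -⟩ := GrothLib.RegLoc.exists_dim_eq (R := F ⧸ Ideal.ofList rs)
  rw [hd, hlen, hm] at h2
  norm_cast at h2
  haveI : Ring.KrullDimLE 0 (F ⧸ Ideal.ofList rs) := Ring.krullDimLE_iff.2 (by
    rw [hm]
    norm_cast
    omega)
  haveI : IsArtinianRing (F ⧸ Ideal.ofList rs) := IsNoetherianRing.isArtinianRing_of_krullDimLE_zero
  obtain ⟨N, hN⟩ := IsArtinianRing.isNilpotent_jacobson_bot (R := F ⧸ Ideal.ofList rs)
  refine ⟨N, ?_⟩
  rw [← Ideal.mk_ker (I := Ideal.ofList rs), RingHom.ker_eq_comap_bot, ← Ideal.map_le_iff_le_comap, Ideal.map_pow,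
    IsLocalRing.map_maximalIdeal_of_surjective _ Ideal.Quotient.mk_surjective, ← jacobson_eq_maximalIdeal ⊥ bot_ne_top]
  exact hN.le

variable [Algebra.FinitePresentation R H] [Module.Flat R H]

set_option maxHeartbeats 600000 in
/-- A slice at a section. -/
theorem exists_slice (ε : H →ₐ[R] R) (p : Ideal R) [p.IsPrime]
    (hcm : LocCoh.IsCohenMacaulayLocalRing (Localization.AtPrime (p.comap ε.toRingHom) ⧸
      (p.map (algebraMap R H)).map (algebraMap H (Localization.AtPrime (p.comap ε.toRingHom))))) :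
    ∃ (r : ℕ) (a : Fin r → H) (N : ℕ) (g₀ g₁ : H), (∀ i, ε (a i) ∈ p) ∧ ε g₀ ∉ p ∧ ε g₁ ∉ p ∧
      (∀ z ∈ (p.comap ε.toRingHom) ^ N, g₀ * z ∈ Ideal.span (Set.range a) ⊔ p.map (algebraMap R H)) ∧
      (MvPolynomial.aeval (R := R) fun i => algebraMap H (Localization.Away g₁) (a i)).toRingHom.Flat := by
  classical
  let x : Ideal H := p.comap ε.toRingHom
  let Rp := Localization.AtPrime p
  let L := Localization.AtPrime x
  let pH : Ideal H := p.map (algebraMap R H)
  let mL : Ideal L := pH.map (algebraMap H L)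
  have hxp : x.comap (algebraMap R H) = p := Ideal.ext fun c => by
    change ε (algebraMap R H c) ∈ p ↔ c ∈ p
    rw [AlgHom.commutes, Algebra.algebraMap_self_apply]
  haveI : IsLocalization.AtPrime Rp (x.comap (algebraMap R H)) := by
    have e : (x.comap (algebraMap R H)).primeCompl = p.primeCompl := Submonoid.ext fun c => by
      change c ∉ x.comap (algebraMap R H) ↔ c ∉ p
      rw [hxp]
    change IsLocalization (x.comap (algebraMap R H)).primeCompl Rp
    rw [e]
    infer_instance
  obtain ⟨ψ, hψ, hl⟩ := FibreFlat.exists_localHom (algebraMap R H) x Rp L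
  letI : Algebra Rp L := ψ.toAlgebra
  haveI : IsLocalHom (algebraMap Rp L) := hl
  haveI : IsScalarTower R Rp L := IsScalarTower.of_algebraMap_eq fun c =>
    (IsScalarTower.algebraMap_apply R H L c).trans (hψ c).symm
  have hess : CAlgX.IsEssFinitePresentation Rp L :=
    FibreFlat.isEssFinitePresentation_localization (R := R) (A := H) p.primeCompl x.primeCompl
  haveI : Module.Flat R L := Module.Flat.trans R H L
  haveI : Module.Flat Rp L := (Module.flat_iff_of_isLocalization Rp p.primeCompl L).mpr inferInstance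
  have hm : mL = (maximalIdeal Rp).map (algebraMap Rp L) := by
    change (p.map (algebraMap R H)).map (algebraMap H L) = _
    rw [← IsLocalization.AtPrime.map_eq_maximalIdeal p Rp, Ideal.map_map, Ideal.map_map,
      ← IsScalarTower.algebraMap_eq, ← IsScalarTower.algebraMap_eq]
  haveI := hcm
  obtain ⟨rs, hrsm, hrs, N, hN⟩ := exists_regular_artinian (L ⧸ mL)
  have hlift : ∀ i : Fin rs.length, ∃ (a : H) (s : x.primeCompl),
      Ideal.Quotient.mk mL (algebraMap H L a) = Ideal.Quotient.mk mL (algebraMap H L s) * rs[i] := fun i => by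
    obtain ⟨b, hb⟩ := Ideal.Quotient.mk_surjective (rs[i])
    obtain ⟨⟨a, s⟩, has⟩ := IsLocalization.surj x.primeCompl b
    exact ⟨a, s, by rw [← hb, ← map_mul, mul_comm, has]⟩
  choose a s has using hlift
  have hreg : IsRegular (L ⧸ mL) ((List.ofFn fun i => algebraMap H L (a i)).map (Ideal.Quotient.mk mL)) := by
    rw [List.map_ofFn, show (Ideal.Quotient.mk mL ∘ fun i => algebraMap H L (a i)) =
      fun i => Ideal.Quotient.mk mL (algebraMap H L (s i)) * rs[i] from funext has]
    refine isRegular_smul_units _ _ (fun i => (IsLocalization.map_units L (s i)).map _) ?_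
    rw [show List.ofFn (fun i : Fin rs.length => rs[i]) = rs from List.ofFn_getElem]
    exact hrs
  have hmem : ∀ i, a i ∈ x := fun i => by
    by_contra hi
    have h1 : IsUnit (Ideal.Quotient.mk mL (algebraMap H L (a i))) :=
      (IsLocalization.map_units L (⟨a i, hi⟩ : x.primeCompl)).map _
    rw [has] at h1
    exact (mem_nonunits_iff.1 ((mem_maximalIdeal _).1 (hrsm _ (List.getElem_mem i.2)))) (isUnit_of_mul_isUnit_right h1)
  have hflatL := FibreFlat.flat_aeval_of_fibre_regular hess (fun i => algebraMap H L (a i))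
    (hm ▸ hreg)
  -- spreading out flatness
  let r := rs.length
  letI : Algebra (MvPolynomial (Fin r) R) H := (MvPolynomial.aeval (R := R) a).toRingHom.toAlgebra
  haveI : IsScalarTower R (MvPolynomial (Fin r) R) H :=
    IsScalarTower.of_algebraMap_eq fun c => ((MvPolynomial.aeval (R := R) a).commutes c).symm
  haveI : Algebra.FinitePresentation (MvPolynomial (Fin r) R) H :=
    Algebra.FinitePresentation.of_restrict_scalars_finitePresentation R _ _
  letI : Algebra (MvPolynomial (Fin r) R) (MvPolynomial (Fin r) Rp) := MvPolynomial.algebraMvPolynomial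
  haveI : Module.Flat (MvPolynomial (Fin r) R) L := by
    rw [← RingHom.flat_algebraMap_iff]
    have e : algebraMap (MvPolynomial (Fin r) R) L = (MvPolynomial.aeval (R := Rp) fun i => algebraMap H L (a i)).toRingHom.comp
        (MvPolynomial.map (algebraMap R Rp)) := by
      refine MvPolynomial.ringHom_ext (fun c => ?_) fun i => ?_
      · change algebraMap H L (MvPolynomial.aeval (R := R) a (MvPolynomial.C c)) =
          MvPolynomial.aeval _ (MvPolynomial.map _ (MvPolynomial.C c))
        rw [MvPolynomial.map_C, MvPolynomial.aeval_C, MvPolynomial.aeval_C, ← IsScalarTower.algebraMap_apply,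
          ← IsScalarTower.algebraMap_apply]
      · change algebraMap H L (MvPolynomial.aeval (R := R) a (MvPolynomial.X i)) =
          MvPolynomial.aeval _ (MvPolynomial.map _ (MvPolynomial.X i))
        rw [MvPolynomial.map_X, MvPolynomial.aeval_X, MvPolynomial.aeval_X]
    rw [e]
    refine RingHom.Flat.comp ?_ hflatL
    change Module.Flat (MvPolynomial (Fin r) R) (MvPolynomial (Fin r) Rp)
    haveI : Module.Flat R Rp := IsLocalization.flat Rp p.primeCompl
    exact Module.Flat.isBaseChange (R := R) (S := MvPolynomial (Fin r) R) (M := Rp) _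
      (inferInstance : Algebra.IsPushout R (MvPolynomial (Fin r) R) Rp (MvPolynomial (Fin r) Rp)).out
  obtain ⟨g₁, hg₁, hflat₁⟩ := FibreFlat.exists_flat_away (P := MvPolynomial (Fin r) R) x
    (Module.Flat.of_linearEquiv ((IsLocalizedModule.iso x.primeCompl (Algebra.linearMap H L)).restrictScalars _))
  -- the kernel of the section
  let I : Ideal H := RingHom.ker ε.toRingHom
  have hIfg : I.FG := Algebra.FinitePresentation.ker_fG_of_surjective ε fun c =>
    ⟨algebraMap R H c, by rw [AlgHom.commutes, Algebra.algebraMap_self_apply]⟩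
  have hxI : x ≤ I ⊔ pH := fun z hz => by
    rw [← sub_add_cancel z (algebraMap R H (ε z))]
    refine Submodule.add_mem_sup ?_ (Ideal.mem_map_of_mem _ hz)
    rw [RingHom.mem_ker, map_sub]
    change ε z - ε (algebraMap R H (ε z)) = 0
    rw [AlgHom.commutes, Algebra.algebraMap_self_apply, sub_self]
  have hJ : (I ^ N).map (algebraMap H L) ≤ (Ideal.span (Set.range a) ⊔ pH).map (algebraMap H L) := by
    rw [Ideal.map_pow]
    have h1 : I.map (algebraMap H L) ≤ maximalIdeal L := by
      rw [← IsLocalization.AtPrime.map_eq_maximalIdeal x L]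
      refine Ideal.map_mono fun z hz => ?_
      change ε z ∈ p
      rw [show ε z = 0 from hz]
      exact p.zero_mem
    refine (Ideal.pow_right_mono h1 N).trans fun z hz => ?_
    have h2 : Ideal.Quotient.mk mL z ∈ Ideal.ofList rs := hN (by
      rw [← IsLocalRing.map_maximalIdeal_of_surjective (Ideal.Quotient.mk mL) Ideal.Quotient.mk_surjective,
        ← Ideal.map_pow]
      exact Ideal.mem_map_of_mem _ hz)
    have h3 : Ideal.ofList rs ≤ ((Ideal.span (Set.range a)).map (algebraMap H L)).map (Ideal.Quotient.mk mL) := by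
      refine Ideal.span_le.2 fun y hy => ?_
      obtain ⟨i, hi, rfl⟩ := List.mem_iff_getElem.1 hy
      have h4 := has ⟨i, hi⟩
      rw [SetLike.mem_coe, ← Ideal.unit_mul_mem_iff_mem _ ((IsLocalization.map_units L (s ⟨i, hi⟩)).map (Ideal.Quotient.mk mL))]
      rw [show rs[i] = rs[(⟨i, hi⟩ : Fin rs.length)] from rfl, ← h4]
      exact Ideal.mem_map_of_mem _ (Ideal.mem_map_of_mem _ (Ideal.subset_span ⟨_, rfl⟩))
    have h5 := h3 h2
    rw [← Ideal.mem_comap, Ideal.comap_map_of_surjective _ Ideal.Quotient.mk_surjective, ← RingHom.ker_eq_comap_bot,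
      Ideal.mk_ker] at h5
    rwa [Ideal.map_sup]
  obtain ⟨G, hG⟩ : (I ^ N).FG := hIfg.pow
  have hex : ∀ z : {z // z ∈ G}, ∃ t ∉ x, t * z.1 ∈ Ideal.span (Set.range a) ⊔ pH := fun z => by
    obtain ⟨t, ht, h⟩ := (IsLocalization.algebraMap_mem_map_algebraMap_iff x.primeCompl L _ _).1
      (hJ (Ideal.mem_map_of_mem _ ((Ideal.span_le.1 hG.le) z.2)))
    exact ⟨t, ht, h⟩
  choose t ht htz using hex
  refine ⟨r, a, N, ∏ z, t z, g₁, fun i => hmem i, fun hmem' => ?_, hg₁, fun z hz => ?_, ?_⟩
  · obtain ⟨z, -, hz⟩ := (Ideal.IsPrime.prod_mem_iff (p := x)).1 hmem'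
    exact ht z hz
  · have hle : (I ⊔ pH) ^ N ≤ I ^ N ⊔ pH := by
      generalize N = M
      induction M with
      | zero => simp
      | succ M ih =>
        rw [pow_succ, pow_succ]
        refine (Ideal.mul_mono ih le_rfl).trans ?_
        rw [Ideal.sup_mul, Ideal.mul_sup]
        exact sup_le (sup_le_sup le_rfl Ideal.mul_le_right) (le_sup_of_le_right Ideal.mul_le_left)
    obtain ⟨y, hy, w, hw, rfl⟩ := Submodule.mem_sup.1 (hle (Ideal.pow_right_mono hxI N hz))
    rw [mul_add]
    refine add_mem ?_ (Ideal.mul_mem_left _ _ (Ideal.mem_sup_right hw))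
    have hy' : y ∈ Ideal.span (G : Set H) := hG.ge hy
    clear hy hz
    induction hy' using Submodule.span_induction with
    | mem y hy =>
      rw [← Finset.prod_erase_mul _ _ (Finset.mem_univ (⟨y, hy⟩ : {z // z ∈ G})), mul_assoc]
      exact Ideal.mul_mem_left _ _ (htz _)
    | zero => simp
    | add y z _ _ h1 h2 => rw [mul_add]; exact add_mem h1 h2
    | smul c y _ h1 => rw [smul_eq_mul, mul_left_comm]; exact Ideal.mul_mem_left _ _ h1
  · have e : (MvPolynomial.aeval (R := R) fun i => algebraMap H (Localization.Away g₁) (a i)).toRingHom =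
        algebraMap (MvPolynomial (Fin r) R) (Localization.Away g₁) := by
      refine (congrArg AlgHom.toRingHom (MvPolynomial.algHom_ext
        (f := MvPolynomial.aeval (R := R) fun i => algebraMap H (Localization.Away g₁) (a i))
        (g := (IsScalarTower.toAlgHom R H (Localization.Away g₁)).comp (MvPolynomial.aeval (R := R) a))
        fun i => by simp)).trans ?_
      exact (IsScalarTower.algebraMap_eq _ _ _).symm
    rw [e, RingHom.flat_algebraMap_iff]
    exact hflat₁

end GrothLib.BGAtlas
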