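import Groth.Agent.Lib.BGAtlas.Pts
import Groth.Agent.Lib.BGAtlas.Local
import Groth.Agent.Lib.BGAtlas.Slice
import Groth.Agent.Lib.AlgSt.SmoothLocus
import Groth.Agent.Lib.QuotSt.Triv
import Mathlib.RingTheory.RingHom.OpenImmersion
import Mathlib.AlgebraicGeometry.Morphisms.Smooth

/-!
# Smooth schemes with free action through any point of the base
-/

set_option autoImplicit false
set_option linter.style.haveILetI false
set_option backward.isDefEq.respectTransparency false
set_option backward.isDefEq.respectTransparency.types false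

universe u

open CategoryTheory CategoryTheory.Limits AlgebraicGeometry MonoidalCategory CartesianMonoidalCategory MonObj

namespace GrothLib.BGAtlas

variable {S : Scheme.{u}} {G : Over S} [GrpObj G]

open GrothLib.AlgSt in
/-- The smooth locus is stable under the action. -/
theorem act_preimage_smoothOpen [Flat G.hom] [LocallyOfFinitePresentation G.hom] {W : Over S} (a : AlgGrp.Action G W) :
    a.act.left ⁻¹ᵁ smoothOpen W.hom = (snd G W).left ⁻¹ᵁ smoothOpen W.hom := by
  have hfst : smoothOpen (pullback.fst G.hom W.hom) = pullback.snd G.hom W.hom ⁻¹ᵁ smoothOpen W.hom := by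
    refine le_antisymm (fun (z : ↑(pullback G.hom W.hom)) hz => ?_) fun (z : ↑(pullback G.hom W.hom)) hz => ?_
    · have e : (pullbackSymmetry W.hom G.hom).hom ≫ pullback.fst G.hom W.hom = pullback.snd W.hom G.hom := by simp
      have hz' : (pullbackSymmetry W.hom G.hom).inv z ∈ smoothOpen (pullback.snd W.hom G.hom) := by
        rw [← e, smoothOpen_comp]
        change (pullbackSymmetry W.hom G.hom).hom ((pullbackSymmetry W.hom G.hom).inv z) ∈ smoothOpen (pullback.fst G.hom W.hom)
        rwa [← Scheme.Hom.comp_apply, Iso.inv_hom_id, show (𝟙 (pullback G.hom W.hom) : _ ⟶ _) z = z from rfl]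
      have h1 := fst_mem_smoothOpen W.hom G.hom (Or.inl inferInstance) _ hz'
      rw [← Scheme.Hom.comp_apply, pullbackSymmetry_inv_comp_fst] at h1
      exact h1
    · refine mem_smoothOpen.2 ⟨pullback.snd G.hom W.hom ⁻¹ᵁ smoothOpen W.hom, hz, ?_⟩
      haveI : Smooth ((smoothOpen W.hom).ι ≫ W.hom) := (smooth_iff_le_smoothOpen _ _).2 le_rfl
      exact MorphismProperty.of_isPullback (P := @Smooth)
        (((isPullback_morphismRestrict (pullback.snd G.hom W.hom) (smoothOpen W.hom)).flip.paste_horiz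
          (IsPullback.of_hasPullback G.hom W.hom)).flip) inferInstance
  let θ : G ⊗ W ⟶ G ⊗ W := lift (fst G W) a.act
  let θ' : G ⊗ W ⟶ G ⊗ W := lift (fst G W) (lift (fst G W)⁻¹ (snd G W) ≫ a.act)
  have hact : lift (fst G W) (snd G W) ≫ a.act = a.act := by rw [lift_fst_snd, Category.id_comp]
  haveI : IsIso θ := by
    refine ⟨θ', ?_, ?_⟩
    · apply CartesianMonoidalCategory.hom_ext
      · simp only [θ, θ', Category.assoc, lift_fst, Category.id_comp]
      · simp only [θ, θ', Category.assoc, lift_snd, Category.id_comp]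
        rw [← Category.assoc, comp_lift, GrpObj.comp_inv, lift_fst, lift_snd]
        refine (congrArg (fun t => lift (fst G W)⁻¹ t ≫ a.act) hact.symm).trans ?_
        change lift (fst G W)⁻¹ (lift (fst G W) (snd G W) ≫ a.act) ≫ a.act = _
        rw [GrothLib.QuotSt.lift_mul_act, inv_mul_cancel, GrothLib.QuotSt.lift_one_act]
    · apply CartesianMonoidalCategory.hom_ext
      · simp only [θ, θ', Category.assoc, lift_fst, Category.id_comp]
      · simp only [θ, θ', Category.assoc, lift_snd, Category.id_comp]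
        refine ((congrArg (fun t => θ' ≫ t) hact.symm).trans ?_)
        change θ' ≫ lift (fst G W) (snd G W) ≫ a.act = _
        rw [← Category.assoc, comp_lift, lift_fst, lift_snd, GrothLib.QuotSt.lift_mul_act, mul_inv_cancel,
          GrothLib.QuotSt.lift_one_act]
  haveI : IsIso θ.left := inferInstanceAs (IsIso ((Over.forget S).map θ))
  have h1 : θ.left ≫ pullback.fst G.hom W.hom = pullback.fst G.hom W.hom :=
    congrArg CommaMorphism.left (lift_fst (fst G W) a.act)
  have h2 : θ.left ≫ (snd G W).left = a.act.left := congrArg CommaMorphism.left (lift_snd (fst G W) a.act)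
  have h3 : smoothOpen (θ.left ≫ pullback.fst G.hom W.hom) = θ.left ⁻¹ᵁ smoothOpen (pullback.fst G.hom W.hom) :=
    smoothOpen_comp θ.left _
  rw [h1, hfst, ← Scheme.Hom.comp_preimage] at h3
  rw [← h2]
  exact h3.symm

open GrothLib.AlgSt in
/-- The smooth part of a scheme with free action. -/
theorem exists_smooth_sub [Flat G.hom] [LocallyOfFinitePresentation G.hom] {W : Over S} (a : AlgGrp.Action G W)
    (hfree : ∀ (T : Over S) (g : T ⟶ G) (w : T ⟶ W), lift g w ≫ a.act = w → g = 1) :
    ∃ (W' : Over S) (a' : AlgGrp.Action G W'), Smooth W'.hom ∧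
      (∀ (T : Over S) (g : T ⟶ G) (w : T ⟶ W'), lift g w ≫ a'.act = w → g = 1) ∧
      Set.range W'.hom = W.hom '' (smoothOpen W.hom : Set W.left) := by
  let O := smoothOpen W.hom
  let W' : Over S := Over.mk (O.ι ≫ W.hom)
  let i : W' ⟶ W := Over.homMk O.ι rfl
  haveI : Mono i := (Over.forget S).mono_of_mono_map (inferInstanceAs (Mono O.ι))
  have hr : Set.range ((G ◁ i) ≫ a.act).left ⊆ Set.range O.ι := by
    rintro _ ⟨z, rfl⟩
    rw [Scheme.Opens.range_ι, Over.comp_left, Scheme.Hom.comp_apply]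
    change (G ◁ i).left z ∈ a.act.left ⁻¹ᵁ O
    rw [act_preimage_smoothOpen a]
    change (snd G W).left ((G ◁ i).left z) ∈ O
    rw [← Scheme.Hom.comp_apply, ← Over.comp_left, whiskerLeft_snd, Over.comp_left, Scheme.Hom.comp_apply]
    exact ((snd G W').left z).2
  let act' : G ⊗ W' ⟶ W' := Over.homMk (IsOpenImmersion.lift O.ι ((G ◁ i) ≫ a.act).left hr) (by
    change _ ≫ O.ι ≫ W.hom = _
    rw [IsOpenImmersion.lift_fac_assoc]
    exact Over.w _)
  have hi : act' ≫ i = (G ◁ i) ≫ a.act := Over.OverMorphism.ext (IsOpenImmersion.lift_fac _ _ _)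
  let a' : AlgGrp.Action G W' :=
    { act := act'
      one_act := by
        rw [← cancel_mono i, Category.assoc, hi, ← whisker_exchange_assoc, a.one_act]
        exact leftUnitor_naturality i
      mul_act := by
        rw [← cancel_mono i]
        simp only [Category.assoc, hi]
        rw [← whisker_exchange_assoc, a.mul_act, ← MonoidalCategory.whiskerLeft_comp_assoc, hi,
          MonoidalCategory.whiskerLeft_comp_assoc]
        exact associator_naturality_right_assoc G G i _ }
  refine ⟨W', a', (smooth_iff_le_smoothOpen _ _).2 le_rfl, fun T g w h => hfree T g (w ≫ i) ?_, ?_⟩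
  · conv_rhs => rw [← h]
    rw [Category.assoc, hi, ← Category.assoc]
    congr 1
    apply CartesianMonoidalCategory.hom_ext <;> simp
  · change Set.range (O.ι ≫ W.hom) = _
    ext s
    simp only [Set.mem_range, Set.mem_image]
    exact ⟨fun ⟨z, hz⟩ => ⟨z.1, z.2, hz⟩, fun ⟨z, hz, e⟩ => ⟨⟨z, hz⟩, e⟩⟩

open GrothLib.AlgSt in
set_option maxHeartbeats 400000 in
/-- Through every point of the base passes a smooth scheme with free action. -/
theorem exists_free_smooth [IsAffineHom G.hom] [Flat G.hom] [LocallyOfFinitePresentation G.hom] (s : S) :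
    ∃ (W : Over S) (a : AlgGrp.Action G W), Smooth W.hom ∧
      (∀ (T : Over S) (g : T ⟶ G) (w : T ⟶ W), lift g w ≫ a.act = w → g = 1) ∧ s ∈ Set.range W.hom := by
  obtain ⟨_, ⟨V, hV, rfl⟩, hsV, -⟩ :=
    S.isBasis_affineOpens.exists_subset_of_mem_open (Set.mem_univ s) isOpen_univ
  let p : Ideal Γ(S, V) := (hV.primeIdealOf ⟨s, hsV⟩).asIdeal
  obtain ⟨H, _, _, g₀, hfp, hflat, hsynt, hg₀⟩ := exists_coord hV G
  let ε : H →ₐ[Γ(S, V)] Γ(S, V) := coordsOf hV g₀ hg₀ 1
  have hx : (p.comap ε.toRingHom).comap (algebraMap Γ(S, V) H) = p := Ideal.ext fun c => by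
    change ε (algebraMap Γ(S, V) H c) ∈ p ↔ c ∈ p
    rw [AlgHom.commutes, Algebra.algebraMap_self_apply]
  obtain ⟨r, a, N, gA, gB, hax, hgA, hgB, hN, hfl⟩ :=
    exists_slice ε p (isCohenMacaulay_fibre hsynt p (p.comap ε.toRingHom) hx)
  obtain ⟨n, hpoint⟩ := exists_smooth_point ε p a hax N gA hgA hN gB hgB hfl
  obtain ⟨B, _, _, b, hBfp, hu⟩ := exists_univ Γ(S, V) H n
  obtain ⟨aB, hfree⟩ := exists_action hV b hu g₀ hg₀
  obtain ⟨B₂, _, _, _, hT, hopen, hsm, P, hP, hPp⟩ := hpoint B b hu
  obtain ⟨W', a', hW', hfree', hrange⟩ := exists_smooth_sub aB hfree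
  refine ⟨W', a', hW', hfree', ?_⟩
  rw [hrange]
  obtain ⟨t, ht⟩ := hopen.exists_away
  haveI : IsOpenImmersion (Spec.map (CommRingCat.ofHom (algebraMap B B₂))) := IsOpenImmersion.of_isLocalization t
  haveI : Algebra.FinitePresentation B B₂ := IsLocalization.Away.finitePresentation t
  haveI : Algebra.FinitePresentation Γ(S, V) B₂ := Algebra.FinitePresentation.trans Γ(S, V) B B₂
  haveI : Algebra.Smooth Γ(S, V) B₂ := ⟨hsm, inferInstance⟩
  haveI : Smooth (Spec.map (CommRingCat.ofHom (algebraMap Γ(S, V) B₂))) :=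
    (HasRingHomProperty.Spec_iff (P := @Smooth)).2 (RingHom.smooth_algebraMap.mpr inferInstance)
  let j : Spec (CommRingCat.of B₂) ⟶ (specO hV B).left := Spec.map (CommRingCat.ofHom (algebraMap B B₂))
  have hj : j ≫ (specO hV B).hom = Spec.map (CommRingCat.ofHom (algebraMap Γ(S, V) B₂)) ≫ hV.fromSpec := by
    change Spec.map _ ≫ Spec.map _ ≫ hV.fromSpec = _
    rw [← Spec.map_comp_assoc, ← CommRingCat.ofHom_comp, ← IsScalarTower.algebraMap_eq]
  let z : Spec (CommRingCat.of B₂) := ⟨P, hP⟩
  refine ⟨j z, mem_smoothOpen.2 ⟨j.opensRange, ⟨z, rfl⟩, ?_⟩, ?_⟩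
  · rw [← j.isoOpensRange_inv_comp, Category.assoc, hj]
    infer_instance
  · rw [← Scheme.Hom.comp_apply, hj, Scheme.Hom.comp_apply]
    have e : Spec.map (CommRingCat.ofHom (algebraMap Γ(S, V) B₂)) z = hV.primeIdealOf ⟨s, hsV⟩ :=
      PrimeSpectrum.ext hPp
    rw [e]
    exact hV.fromSpec_primeIdealOf ⟨s, hsV⟩

end GrothLib.BGAtlas
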