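import Mathlib.LinearAlgebra.StdBasis
import Mathlib.LinearAlgebra.Matrix.Adjugate
import Mathlib.RingTheory.Ideal.Quotient.Operations
import Mathlib.RingTheory.Finiteness.Basic
import Mathlib.LinearAlgebra.FreeModule.Finite.Basic
import Mathlib.Algebra.Algebra.Tower
import Mathlib.LinearAlgebra.BilinearMap
import Mathlib.LinearAlgebra.Basis.Bilinear

/-!
# Algebra structures on `C^{n+1}` with first basis vector the unit
-/

set_option autoImplicit false
set_option backward.isDefEq.respectTransparency false
set_option backward.isDefEq.respectTransparency.types false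

universe u v

namespace GrothLib.BGAtlas

variable {C : Type u} [CommRing C] {n : ℕ}

/-- Structure constants of a commutative associative algebra with unit `e₀`. -/
@[ext] structure Str (C : Type u) [CommRing C] (n : ℕ) where
  /-- the constants -/
  c : Fin (n + 1) → Fin (n + 1) → Fin (n + 1) → C
  comm : ∀ i j k, c i j k = c j i k
  assoc : ∀ i j l m, ∑ k, c i j k * c k l m = ∑ k, c j l k * c i k m
  one : ∀ j k, c 0 j k = if j = k then 1 else 0

/-- Transport of constants along a ring homomorphism. -/
def Str.map {D : Type v} [CommRing D] (S : Str C n) (f : C →+* D) : Str D n where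
  c i j k := f (S.c i j k)
  comm i j k := congrArg f (S.comm i j k)
  assoc i j l m := by simp only [← map_mul, ← map_sum, S.assoc]
  one j k := by rw [S.one]; split <;> simp

/-- The algebra of a set of structure constants. -/
def Alg (_S : Str C n) : Type u := Fin (n + 1) → C

namespace Alg

variable {S : Str C n}

instance : AddCommGroup (Alg S) := inferInstanceAs (AddCommGroup (Fin (n + 1) → C))

instance {R : Type v} [CommRing R] [Algebra R C] : Module R (Alg S) :=
  inferInstanceAs (Module R (Fin (n + 1) → C))

instance {R : Type v} [CommRing R] [Algebra R C] : IsScalarTower R C (Alg S) :=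
  inferInstanceAs (IsScalarTower R C (Fin (n + 1) → C))

/-- The coordinates. -/
def coords : Alg S ≃ₗ[C] (Fin (n + 1) → C) := LinearEquiv.refl C _

/-- The vector with given coordinates. -/
def mk (x : Fin (n + 1) → C) : Alg S := x

@[simp] theorem coords_mk (x : Fin (n + 1) → C) : (coords (mk x : Alg S)) = x := rfl

theorem ext {x y : Alg S} (h : ∀ i, coords x i = coords y i) : x = y := funext h

/-- The standard basis. -/
noncomputable def basis (S : Str C n) : Module.Basis (Fin (n + 1)) C (Alg S) :=
  Module.Basis.ofEquivFun coords

theorem coords_basis (i : Fin (n + 1)) : coords (basis S i) = Pi.single i 1 := by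
  rw [basis, Module.Basis.coe_ofEquivFun]
  exact LinearEquiv.apply_symm_apply _ _

theorem repr_basis (x : Alg S) (i : Fin (n + 1)) : (basis S).repr x i = coords x i := rfl

theorem sum_coords (x : Alg S) : ∑ i, coords x i • basis S i = x := (basis S).sum_repr x

/-- The multiplication as a bilinear map. -/
noncomputable def mulL (S : Str C n) : Alg S →ₗ[C] Alg S →ₗ[C] Alg S :=
  (basis S).constr C fun i => (basis S).constr C fun j => (mk (S.c i j) : Alg S)

theorem mulL_basis (i j : Fin (n + 1)) : mulL S (basis S i) (basis S j) = mk (S.c i j) := by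
  simp [mulL]

theorem mulL_comm (x y : Alg S) : mulL S x y = mulL S y x := by
  have : mulL S = (mulL S).flip := (basis S).ext fun i => (basis S).ext fun j => by
    rw [LinearMap.flip_apply, mulL_basis, mulL_basis]
    exact ext fun k => S.comm i j k
  exact LinearMap.congr_fun (LinearMap.congr_fun this x) y

theorem mulL_basis_left (i j l : Fin (n + 1)) :
    mulL S (mulL S (basis S i) (basis S j)) (basis S l) =
      mulL S (basis S i) (mulL S (basis S j) (basis S l)) := by
  rw [mulL_basis, mulL_basis]
  conv_lhs => rw [← sum_coords (mk (S.c i j))]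
  conv_rhs => rw [← sum_coords (mk (S.c j l))]
  simp only [map_sum, LinearMap.coe_sum, Finset.sum_apply, map_smul, LinearMap.smul_apply, coords_mk, mulL_basis]
  refine ext fun m => ?_
  simp only [map_sum, map_smul, Finset.sum_apply, Pi.smul_apply, coords_mk, smul_eq_mul]
  exact S.assoc i j l m

theorem mulL_assoc (x y z : Alg S) : mulL S (mulL S x y) z = mulL S x (mulL S y z) := by
  rw [← sum_coords x, ← sum_coords y, ← sum_coords z]
  simp only [map_sum, LinearMap.coe_sum, Finset.sum_apply, map_smul, LinearMap.smul_apply, Finset.smul_sum,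
    mulL_basis_left]

theorem mulL_one (x : Alg S) : mulL S (basis S 0) x = x := by
  have : mulL S (basis S 0) = LinearMap.id := (basis S).ext fun j => by
    rw [mulL_basis, LinearMap.id_apply]
    refine ext fun k => ?_
    rw [coords_mk, coords_basis, S.one, Pi.single_apply]
    simp [eq_comm]
  rw [this]
  rfl

noncomputable instance : CommRing (Alg S) where
  mul x y := mulL S x y
  one := basis S 0
  left_distrib x y z := map_add (mulL S x) y z
  right_distrib x y z := by
    change mulL S (x + y) z = mulL S x z + mulL S y z
    rw [map_add, LinearMap.add_apply]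
  zero_mul x := by
    change mulL S 0 x = 0
    rw [map_zero, LinearMap.zero_apply]
  mul_zero x := map_zero (mulL S x)
  mul_assoc := mulL_assoc
  one_mul := mulL_one
  mul_one x := (mulL_comm x _).trans (mulL_one x)
  mul_comm := mulL_comm

theorem one_def : (1 : Alg S) = basis S 0 := rfl

theorem mul_def (x y : Alg S) : x * y = mulL S x y := rfl

theorem basis_mul (i j : Fin (n + 1)) : basis S i * basis S j = mk (S.c i j) := mulL_basis i j

theorem smul_mul {R : Type v} [CommRing R] [Algebra R C] (r : R) (x y : Alg S) : r • x * y = r • (x * y) := by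
  rw [← IsScalarTower.algebraMap_smul C r x, ← IsScalarTower.algebraMap_smul C r (x * y), mul_def, mul_def, map_smul,
    LinearMap.smul_apply]

noncomputable instance {R : Type v} [CommRing R] [Algebra R C] : Algebra R (Alg S) :=
  Algebra.ofModule smul_mul fun r x y => by rw [mul_comm, smul_mul, mul_comm]

theorem algebraMap_eq {R : Type v} [CommRing R] [Algebra R C] (r : R) :
    algebraMap R (Alg S) r = r • (1 : Alg S) := Algebra.algebraMap_eq_smul_one r

instance : Module.Finite C (Alg S) := Module.Finite.of_basis (basis S)

instance : Module.Free C (Alg S) := Module.Free.of_basis (basis S)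

theorem coords_one : coords (1 : Alg S) = Pi.single 0 1 := coords_basis 0

theorem algebraMap_injective : Function.Injective (algebraMap C (Alg S)) := fun a b h => by
  have := congrArg (fun x => coords x 0) h
  simpa [algebraMap_eq, coords_one] using this

variable {D : Type v} [CommRing D]

/-- Entrywise transport. -/
def mapFun (S : Str C n) (f : C →+* D) (x : Alg S) : Alg (S.map f) := mk fun i => f (coords x i)

theorem mapFun_add (f : C →+* D) (x y : Alg S) : mapFun S f (x + y) = mapFun S f x + mapFun S f y :=
  ext fun i => map_add f _ _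

theorem mapFun_smul (f : C →+* D) (r : C) (x : Alg S) : mapFun S f (r • x) = f r • mapFun S f x :=
  ext fun i => map_mul f _ _

theorem mapFun_basis (f : C →+* D) (i : Fin (n + 1)) : mapFun S f (basis S i) = basis (S.map f) i :=
  ext fun k => by
    rw [mapFun, coords_mk, coords_basis, coords_basis, Pi.single_apply, Pi.single_apply]
    split <;> simp

theorem mapFun_mul (f : C →+* D) (x y : Alg S) : mapFun S f (x * y) = mapFun S f x * mapFun S f y := by
  let φ : Alg S →+ Alg (S.map f) := ⟨⟨mapFun S f, ext fun i => map_zero f⟩, mapFun_add f⟩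
  change φ (x * y) = φ x * φ y
  rw [← sum_coords x, ← sum_coords y]
  simp only [map_sum, Finset.sum_mul, Finset.mul_sum]
  refine Finset.sum_congr rfl fun i _ => Finset.sum_congr rfl fun j _ => ?_
  change mapFun S f (_ • basis S _ * _ • basis S _) = mapFun S f (_ • basis S _) * mapFun S f (_ • basis S _)
  rw [smul_mul_smul_comm, mapFun_smul, mapFun_smul, mapFun_smul, smul_mul_smul_comm, map_mul, mapFun_basis,
    mapFun_basis, basis_mul, basis_mul]
  rfl

/-- The ring homomorphism induced on the algebras. -/
noncomputable def map (S : Str C n) (f : C →+* D) : Alg S →+* Alg (S.map f) where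
  toFun := mapFun S f
  map_one' := mapFun_basis f 0
  map_mul' := mapFun_mul f
  map_zero' := ext fun _ => map_zero f
  map_add' := mapFun_add f

@[simp] theorem coords_map (f : C →+* D) (x : Alg S) (i : Fin (n + 1)) : coords (map S f x) i = f (coords x i) := rfl

theorem map_smul' (f : C →+* D) (r : C) (x : Alg S) : map S f (r • x) = f r • map S f x := mapFun_smul f r x

theorem map_basis (f : C →+* D) (i : Fin (n + 1)) : map S f (basis S i) = basis (S.map f) i := mapFun_basis f i

theorem map_algebraMap (f : C →+* D) (r : C) : map S f (algebraMap C _ r) = algebraMap D _ (f r) := by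
  rw [algebraMap_eq, algebraMap_eq, map_smul', map_one]

theorem isNilpotent_of_map_eq_zero (f : C →+* D) {k : ℕ} (hf : RingHom.ker f ^ k = ⊥) {x : Alg S}
    (hx : map S f x = 0) : IsNilpotent x := by
  refine ⟨k, ?_⟩
  have hmem : x ∈ (RingHom.ker f).map (algebraMap C (Alg S)) := by
    rw [← sum_coords x]
    refine sum_mem fun i _ => ?_
    rw [Algebra.smul_def]
    refine Ideal.mul_mem_right _ _ (Ideal.mem_map_of_mem _ ?_)
    have := congrArg (fun z => coords z i) hx
    rw [coords_map] at this
    exact this
  have := Ideal.pow_mem_pow hmem k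
  rw [← Ideal.map_pow, hf, Ideal.map_bot] at this
  exact this

end Alg

/-- Constants of an algebra with a basis starting with the unit. -/
theorem exists_str_of_basis {A : Type v} [CommRing A] [Algebra C A] (v : Module.Basis (Fin (n + 1)) C A)
    (h1 : v 0 = 1) :
    ∃ (S : Str C n) (e : Alg S ≃ₐ[C] A), (∀ i j k, S.c i j k = v.repr (v i * v j) k) ∧
      ∀ i, e (Alg.basis S i) = v i := by
  let c := fun i j k => v.repr (v i * v j) k
  have hc : ∀ i j, ∑ k, c i j k • v k = v i * v j := fun i j => v.sum_repr _
  have hm : ∀ (i j l m : Fin (n + 1)), v.repr (v i * v j * v l) m = ∑ k, c i j k * c k l m := by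
    intro i j l m
    rw [← hc i j, Finset.sum_mul, map_sum, Finsupp.coe_finsetSum, Finset.sum_apply]
    exact Finset.sum_congr rfl fun k _ => by rw [smul_mul_assoc, map_smul]; rfl
  let S : Str C n :=
    { c := c
      comm := fun i j k => by simp [c, mul_comm (v i)]
      assoc := fun i j l m => by
        rw [← hm, mul_assoc, mul_comm, hm j l i m]
        exact Finset.sum_congr rfl fun k _ => by simp [c, mul_comm (v i)]
      one := fun j k => by simp [c, h1, Finsupp.single_apply] }
  let e₀ : Alg S ≃ₗ[C] A := (Alg.basis S).equiv v (Equiv.refl _)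
  have he : ∀ i, e₀ (Alg.basis S i) = v i := fun i => (Alg.basis S).equiv_apply i v (Equiv.refl _)
  have hmul : ∀ x y, e₀ (x * y) = e₀ x * e₀ y := by
    intro x y
    rw [← Alg.sum_coords x, ← Alg.sum_coords y]
    simp only [map_sum, Finset.sum_mul, Finset.mul_sum, smul_mul_smul_comm, map_smul, he, Alg.basis_mul]
    refine Finset.sum_congr rfl fun i _ => Finset.sum_congr rfl fun j _ => congrArg _ ?_
    rw [← Alg.sum_coords (Alg.mk _)]
    simp only [map_sum, map_smul, he, Alg.coords_mk]
    exact hc j i
  exact ⟨S, AlgEquiv.ofLinearEquiv e₀ (by rw [Alg.one_def, he, h1]) hmul, fun _ _ _ => rfl, he⟩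

/-- Vectors congruent to the standard basis modulo a prime span after inverting an element outside it. -/
theorem exists_smul_mem_span {w : Ideal C} [w.IsPrime] {S : Str C n} (v : Fin (n + 1) → Alg S)
    (hv : ∀ i k, Alg.coords (v i) k - (if i = k then 1 else 0) ∈ w) :
    ∃ D ∉ w, ∀ x : Alg S, D • x ∈ Submodule.span C (Set.range v) := by
  classical
  let M : Matrix (Fin (n + 1)) (Fin (n + 1)) C := Matrix.of fun i k => Alg.coords (v i) k
  refine ⟨M.det, fun hD => ?_, fun x => ?_⟩
  · have h1 : (Ideal.Quotient.mk w) M.det = 1 := by
      rw [RingHom.map_det]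
      have e : (Ideal.Quotient.mk w).mapMatrix M = 1 := by
        ext i k
        have := Ideal.Quotient.eq.2 (hv i k)
        simp only [RingHom.mapMatrix_apply, Matrix.map_apply, M, Matrix.of_apply, Matrix.one_apply]
        rw [this]
        split <;> simp
      rw [e, Matrix.det_one]
    rw [Ideal.Quotient.eq_zero_iff_mem.2 hD] at h1
    exact zero_ne_one h1
  · have hb : ∀ k, M.det • Alg.basis S k ∈ Submodule.span C (Set.range v) := fun k => by
      have : M.det • Alg.basis S k = ∑ i, M.adjugate k i • v i := Alg.ext fun m => by
        have h := congrFun (congrFun (Matrix.adjugate_mul M) k) m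
        rw [Matrix.mul_apply] at h
        simp only [map_sum, map_smul, Finset.sum_apply, Pi.smul_apply, Alg.coords_basis, smul_eq_mul]
        simp only [Matrix.smul_apply, Matrix.one_apply, smul_eq_mul] at h
        rw [Pi.single_apply]
        refine Eq.trans ?_ h.symm
        simp [eq_comm]
      rw [this]
      exact Submodule.sum_mem _ fun i _ => Submodule.smul_mem _ _ (Submodule.subset_span ⟨i, rfl⟩)
    rw [← Alg.sum_coords x, Finset.smul_sum]
    exact Submodule.sum_mem _ fun k _ => by
      rw [smul_comm]
      exact Submodule.smul_mem _ _ (hb k)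

attribute [irreducible] Alg.mulL Alg.basis

end GrothLib.BGAtlas
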